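import Mathlib.Data.Nat.Notation

/-! generated labelled Todd-Coxeter certificate data (part): A1 -/

set_option autoImplicit false
set_option Elab.async false
set_option maxRecDepth 1000000

namespace Cfsg.Agent.Helper9.ONM.A1

def fa2_0 : List (List ℕ) := [[0x3d0000200000200000000000003e000024000020000000000000000000110000200000000000003e000030000020000000000000000000030000100000000000003e0000320000100000000000003e00004000001000000000000001000003000040000000000000000000410000300000000000000000003300002000000000000000000021000010000000000000000000130000000000000000000000000100000]]

end Cfsg.Agent.Helper9.ONM.A1
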