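import Mathlib.Data.Nat.Notation

/-! generated labelled Todd-Coxeter certificate data (part): A1 -/

set_option autoImplicit false
set_option Elab.async false
set_option maxRecDepth 1000000

namespace Cfsg.Agent.Helper9.ONM.A1

def tb2_0 : List (List ℕ) := [[0x2000016000002000017000001000005000001000014000000000003000000000010000002000015000002000004000001000011000001000002000000000001000000000000]]

end Cfsg.Agent.Helper9.ONM.A1
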