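import Cfsg.Agent.Helper9.ONM.A1Dat

/-! generated labelled Todd-Coxeter certificate: A1 -/

set_option autoImplicit false
set_option Elab.async false
set_option maxRecDepth 1000000

namespace Cfsg.Agent.Helper9.ONM.A1
open Cfsg.Agent.Helper5.LTC

def ju_0 : List ℕ := [0x27, 0x0, 0x0, 0x0, 0x0, 0x20000018000010000008000000000014000000501f, 0x80000280000080001002019, 0x240000300080000000400007, 0x28000030008000000040000b, 0x380000100040040000401015, 0x3c0000480080000000800003, 0x1c000048008000000080000f, 0x5c00005c0000080000802019]

theorem len_0 : ju_0.length = 13 := by decide +kernel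

theorem chk_0 : checkList cert 0 ju_0 = true := by decide +kernel

end Cfsg.Agent.Helper9.ONM.A1
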