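import Mathlib.Data.Nat.Notation

/-! generated labelled Todd-Coxeter certificate data (part): A2 -/

set_option autoImplicit false
set_option Elab.async false
set_option maxRecDepth 1000000

namespace Cfsg.Agent.Helper9.ONM.A2

def fa2_0 : List (List ℕ) := [[0x80000053000050000000000000be00005500005000000000000000000021000050000000000000000000510000200000000000003d0000200000200000000000003e000026000020000000000000000000130000200000000000003e000030000020000000000000000000050000100000000000003e00003400001000000000001e8000001000001000000000001f0000001200001000000000001f000000110000100000000000003e00004000001000000000001f01000011000040000000000000be0000410000100000000000000100000500004000000000000000000043000030000000000000000000350000200000000000000000002300001000000000000000000015000000000000000000000000030000000000000000000000000100000]]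

end Cfsg.Agent.Helper9.ONM.A2
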