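import Mathlib.Data.Nat.Notation

/-! generated labelled Todd-Coxeter certificate data (part): A2 -/

set_option autoImplicit false
set_option Elab.async false
set_option maxRecDepth 1000000

namespace Cfsg.Agent.Helper9.ONM.A2

def tb2_0 : List (List ℕ) := [[0x300002b00000300002a00000300002d00000300002c00000200002700000200002800000200002200000200002300000100000700000100002000000300002900000300002600000000000500000000001c00000200002100000200000600000100001500000100001400000100001d000001000004000000000003000000000002000000000001000000000000]]

end Cfsg.Agent.Helper9.ONM.A2
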