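import Cfsg.Agent.Helper4.LTCX
import Cfsg.Agent.Helper9.ONM.A2Fa0
import Cfsg.Agent.Helper9.ONM.A2Tv0

/-! generated labelled Todd-Coxeter certificate data: A2 (helper4 prover, helper9 emitter) -/

set_option autoImplicit false
set_option Elab.async false

namespace Cfsg.Agent.Helper9.ONM.A2
open Cfsg.Agent.Helper5.LTC Cfsg.Agent.Helper4.LTCX

def words2 : List (List (List ℕ)) := [[[0, 1], [1, 0], [2, 3], [3, 2], [4, 5], [5, 4], [], [0, 0], [2, 2], [4, 4], [2, 4, 2, 4, 2, 4], [4, 2, 4, 2, 4, 2], [0, 4, 0, 4], [4, 0, 4, 0], [0, 2, 0, 2, 0, 2], [2, 0, 2, 0, 2, 0]],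
  [[0], [2]]]

def deltas : List ℕ := [0, 0, 0, 0, 0, 0, 0, 0, 0, 0, 1, 1, 128, 128, 0, 0, 0, 0]

def origs : List ℕ := [0, 0, 0, 0, 0, 0, 0, 0, 0, 0, 1, 129, 3, 131, 5, 133, 0, 0]

def par2 : List (List ℕ) := [[0x2000003000002000001000000000000]]

def gen2 : List (List ℕ) := [[0x24240]]

def lv2 : List (List ℕ) := [[0x5000002000001000000]]

def faParts : List (List (List ℕ)) := [fa2_0]

def tbParts : List (List (List ℕ)) := [tb2_0]

def cert : Cert where
  k := 6
  ι := Cfsg.Agent.Helper5.StemP.linv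
  E := 63
  W := fun wi => (words2.getD (Nat.div wi 16) []).getD (Nat.mod wi 16) []
  nrel := 16
  nw := 18
  δ := fun wi => L8.dec (deltas.getD wi 0)
  par := fun v => lk2 24 par2 v
  gen := fun v => lk2 4 gen2 v
  fa := fun j => lk2 104 (faParts.getD (Nat.div j 262144) []) (Nat.mod j 262144)
  nf := 23

def tab : Tab where
  N := 4
  LV := fun n => lk2 24 lv2 n
  TB := fun n x => lk2 48 (tbParts.getD (Nat.div (Nat.add (Nat.mul 6 n) x) 524288) []) (Nat.mod (Nat.add (Nat.mul 6 n) x) 524288)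

def js : List ℕ := [12, 18]

def cs0 : List ℕ := [0, 32]

def as_ : List ℕ := [0, 0]

def css : List (List ℕ) := [[0, 32], [32, 0]]

end Cfsg.Agent.Helper9.ONM.A2
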