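import Cfsg.Agent.Helper9.ONM.A2Dat

/-! generated labelled Todd-Coxeter certificate: A2 -/

set_option autoImplicit false
set_option Elab.async false
set_option maxRecDepth 1000000

namespace Cfsg.Agent.Helper9.ONM.A2
open Cfsg.Agent.Helper5.LTC

def ju_0 : List ℕ := [0x43, 0x47, 0x0, 0x0, 0x0, 0x0, 0x28000020000018000010000008000014000000502b, 0x340000100000000040080000002033, 0x38000004000040101f, 0x100000300000080001002025, 0x400000480080000000400003, 0x3c0000480080000000400007, 0x580000540040040000401005, 0x2c000048008000000040000f, 0x300000480080000000400013, 0x680000180040040000401021, 0x6c000078008000000080000b, 0x240000780080000000800017, 0x8c00008c0000080000802025, 0x0, 0x98000004000080101f, 0x9800008c0000a000000c0001403033, 0x980000180000500000800000a0000014000140503b]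

theorem len_0 : ju_0.length = 23 := by decide +kernel

theorem chk_0 : checkList cert 0 ju_0 = true := by decide +kernel

end Cfsg.Agent.Helper9.ONM.A2
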