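import Mathlib.Data.Nat.Notation

/-! generated labelled Todd-Coxeter certificate data (part): A3 -/

set_option autoImplicit false
set_option Elab.async false
set_option maxRecDepth 1000000

namespace Cfsg.Agent.Helper9.ONM.A3

def tb2_0 : List (List ℕ) := [[0x1800013500001800013a00001a00014300001a00014000001700013f00001700013800001a00013d00001a00013600001900013300001900012e00001b00014100001b00014200001500012d00001500013000001b00013700001b00013c00001a00012f00001a00013200001900012900001900012800001200012300001200012600001800012b00001800012400001b00013b00001b00013400001800012100001800012000000f00011d00000f00011e00001900012500001900012a00000f00011900000f00011200001600011b00001600011400001b00013900001b00013e00001400011100001400011600001000010500001000010a00001700011500001700011a00001400010f00001400010800001500010d0000150001060000120000fd0000120001000000140001030000140000fe00001a00013100001a00012c00001600010700001600010c00000e0000f900000e0000fa0000150000ff00001500010200001600010900001600010e0000170001170000170001100000110000f30000110000ee0000130000f50000130000f40000130000f70000130000f600000b0000ed00000b0000f00000150001010000150000fc0000110000eb0000110000e60000190001270000190001220000100000e50000100000e80000130000ef0000130000f20000120000e70000120000ea0000110000e30000110000e200000a0000df00000a0000e000001600010b00001600010400000a0000d700000a0000da00000e0000dd00000e000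0d80000120000e90000120000e400001700011300001700011800000d0000cf00000d0000d200001800011f00001800011c00000e0000d500000e0000d00000140000fb0000140000f80000090000cb0000090000cc0000100000d90000100000dc00000f0000d100000f0000d400000c0000c700000c0000c200000f0000d300000f0000ce00000d0000c900000d0000c80000090000c10000090000c400000d0000c300000d0000c600000c0000bd00000c0000bc00000c0000bf00000c0000be0000080000b90000080000ba00000a0000b500000a0000b000000b0000b700000b0000b60000050000af0000050000b20000130000f10000130000ec00000b0000b100000b0000b40000100000db0000100000d60000040000ab0000040000ac0000110000e10000110000de0000080000a90000080000a400000e0000cd00000e0000ca0000030000a30000030000a600000d0000c500000d0000c00000090000a50000090000a80000080000a10000080000a000000200009d00000200009e00000c0000bb00000c0000b800000600001300000600009a00000700009800000700009900000700009700000700009600000700009500000700009400000700009b00000700001200000500001100000500008e00000600008d00000600008c00000600008b00000600008a00000400000f00000400008600000600008f00000600001000000b0000b300000b0000ae00000500008300000500008200000500008700000500000e00000300000d00000300007c00000a0000ad00000a0000aa00000400007b00000400007a00000200000b00000200007600000400007d00000400000c0000090000a70000090000a200000300007300000300007200000300007700000300000a00000100000900000100006c00000800009f00000800009c00000200006b00000200006a00000000000700000000006600000200006d00000200000800000100005f00000100005e000001000059000001000058000001000067000001000006000000000005000000000004000000000003000000000002000000000001000000000000]]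

end Cfsg.Agent.Helper9.ONM.A3
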