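import Cfsg.Agent.Helper4.LTCX
import Cfsg.Agent.Helper9.ONM.A3Fa0
import Cfsg.Agent.Helper9.ONM.A3Tv0

/-! generated labelled Todd-Coxeter certificate data: A3 (helper4 prover, helper9 emitter) -/

set_option autoImplicit false
set_option Elab.async false

namespace Cfsg.Agent.Helper9.ONM.A3
open Cfsg.Agent.Helper5.LTC Cfsg.Agent.Helper4.LTCX

def words2 : List (List (List ℕ)) := [[[0, 1], [1, 0], [2, 3], [3, 2], [4, 5], [5, 4], [6, 7], [7, 6], [], [0, 0], [2, 2], [4, 4], [6, 6], [4, 6, 4, 6, 4, 6, 4, 6, 4, 6, 4, 6, 4, 6, 4, 6], [6, 4, 6, 4, 6, 4, 6, 4, 6, 4, 6, 4, 6, 4, 6, 4], [0, 6, 0, 6]],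
  [[6, 0, 6, 0], [2, 6, 2, 6], [6, 2, 6, 2], [2, 0, 4, 6, 4, 6, 4, 6, 4, 6, 2, 0, 4, 6, 4, 6, 4, 6, 4, 6], [0, 4, 6, 4, 6, 4, 6, 4, 6, 2, 0, 4, 6, 4, 6, 4, 6, 4, 6, 2], [4, 6, 4, 6, 4, 6, 4, 6, 2, 0, 4, 6, 4, 6, 4, 6, 4, 6, 2, 0], [6, 4, 6, 4, 6, 4, 6, 2, 0, 4, 6, 4, 6, 4, 6, 4, 6, 2, 0, 4], [4, 6, 4, 6, 4, 6, 2, 0, 4, 6, 4, 6, 4, 6, 4, 6, 2, 0, 4, 6], [6, 4, 6, 4, 6, 2, 0, 4, 6, 4, 6, 4, 6, 4, 6, 2, 0, 4, 6, 4], [4, 6, 4, 6, 2, 0, 4, 6, 4, 6, 4, 6, 4, 6, 2, 0, 4, 6, 4, 6], [6, 4, 6, 2, 0, 4, 6, 4, 6, 4, 6, 4, 6, 2, 0, 4, 6, 4, 6, 4], [4, 6, 2, 0, 4, 6, 4, 6, 4, 6, 4, 6, 2, 0, 4, 6, 4, 6, 4, 6], [6, 2, 0, 4, 6, 4, 6, 4, 6, 4, 6, 2, 0, 4, 6, 4, 6, 4, 6, 4], [2, 4, 2, 4, 2, 4], [4, 2, 4, 2, 4, 2], [0, 4, 0, 4]],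
  [[4, 0, 4, 0], [0, 2, 0, 2, 0, 2], [2, 0, 2, 0, 2, 0], [0], [2], [4]]]

def deltas : List ℕ := [0, 0, 0, 0, 0, 0, 0, 0, 0, 0, 0, 0, 0, 1, 1, 128, 128, 16384, 16384, 2097152, 2097152, 2097152, 2097152, 2097152, 2097152, 2097152, 2097152, 2097152, 2097152, 0, 0, 0, 0, 0, 0, 0, 0, 0]

def origs : List ℕ := [0, 0, 0, 0, 0, 0, 0, 0, 0, 0, 0, 0, 0, 1, 129, 3, 131, 5, 133, 7, 135, 263, 391, 519, 647, 775, 903, 1031, 1159, 9, 137, 11, 139, 13, 141, 0, 0, 0]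

def par2 : List (List ℕ) := [[0x2000001d00001a00001700001c00001800001a00001600001300001800001200001200001500001100001100001000000500000400000300000200000700000d00000c00000b00000a000009000008000007000006000005000004000003000002000001000000000000]]

def gen2 : List (List ℕ) := [[0x622206660004440022222464646464646460]]

def lv2 : List (List ℕ) := [[0x2300002200002100002000001f00001e00001d00001c00001b00001a000019000018000017000016000015000014000013000012000011000010000007000006000005000004000003000002000001000000]]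

def faParts : List (List (List ℕ)) := [fa2_0]

def tbParts : List (List (List ℕ)) := [tb2_0]

def cert : Cert where
  k := 8
  ι := Cfsg.Agent.Helper5.StemP.linv
  E := 63
  W := fun wi => (words2.getD (Nat.div wi 16) []).getD (Nat.mod wi 16) []
  nrel := 35
  nw := 38
  δ := fun wi => L8.dec (deltas.getD wi 0)
  par := fun v => lk2 24 par2 v
  gen := fun v => lk2 4 gen2 v
  fa := fun j => lk2 104 (faParts.getD (Nat.div j 262144) []) (Nat.mod j 262144)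
  nf := 162

def tab : Tab where
  N := 28
  LV := fun n => lk2 24 lv2 n
  TB := fun n x => lk2 48 (tbParts.getD (Nat.div (Nat.add (Nat.mul 8 n) x) 524288) []) (Nat.mod (Nat.add (Nat.mul 8 n) x) 524288)

def js : List ℕ := [41, 42, 46, 49]

def cs0 : List ℕ := [0, 32, 2, 0]

def as_ : List ℕ := [0, 0, 0, 0]

def css : List (List ℕ) := [[0, 32, 2, 0], [0, 0, 32, 0], [0, 0, 0, 32], [32, 32, 33, 32]]

end Cfsg.Agent.Helper9.ONM.A3
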