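import Cfsg.Agent.Helper9.ONM.A5Dat

/-! generated labelled Todd-Coxeter certificate: A5 -/

set_option autoImplicit false
set_option Elab.async false
set_option maxRecDepth 1000000

namespace Cfsg.Agent.Helper9.ONM.A5
open Cfsg.Agent.Helper5.LTC

theorem rows_40 : tabRowsOK cert tab 1000 40000 = true := by decide +kernel

theorem rows_41 : tabRowsOK cert tab 1000 41000 = true := by decide +kernel

theorem rows_42 : tabRowsOK cert tab 1000 42000 = true := by decide +kernel

theorem rows_43 : tabRowsOK cert tab 1000 43000 = true := by decide +kernel

theorem rows_44 : tabRowsOK cert tab 1000 44000 = true := by decide +kernel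

theorem rows_45 : tabRowsOK cert tab 1000 45000 = true := by decide +kernel

theorem rows_46 : tabRowsOK cert tab 1000 46000 = true := by decide +kernel

theorem rows_47 : tabRowsOK cert tab 1000 47000 = true := by decide +kernel

theorem rows_48 : tabRowsOK cert tab 1000 48000 = true := by decide +kernel

theorem rows_49 : tabRowsOK cert tab 1000 49000 = true := by decide +kernel

end Cfsg.Agent.Helper9.ONM.A5
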