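import Cfsg.Agent.Helper9.ONM.A5Dat

/-! generated labelled Todd-Coxeter certificate: A5 -/

set_option autoImplicit false
set_option Elab.async false
set_option maxRecDepth 1000000

namespace Cfsg.Agent.Helper9.ONM.A5
open Cfsg.Agent.Helper5.LTC

theorem rows_50 : tabRowsOK cert tab 1000 50000 = true := by decide +kernel

theorem rows_51 : tabRowsOK cert tab 1000 51000 = true := by decide +kernel

theorem rows_52 : tabRowsOK cert tab 1000 52000 = true := by decide +kernel

theorem rows_53 : tabRowsOK cert tab 1000 53000 = true := by decide +kernel

theorem rows_54 : tabRowsOK cert tab 1000 54000 = true := by decide +kernel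

theorem rows_55 : tabRowsOK cert tab 1000 55000 = true := by decide +kernel

theorem rows_56 : tabRowsOK cert tab 1000 56000 = true := by decide +kernel

theorem rows_57 : tabRowsOK cert tab 1000 57000 = true := by decide +kernel

theorem rows_58 : tabRowsOK cert tab 1000 58000 = true := by decide +kernel

theorem rows_59 : tabRowsOK cert tab 1000 59000 = true := by decide +kernel

end Cfsg.Agent.Helper9.ONM.A5
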