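import Mathlib

/-!
# The presentation of the O'Nan group on six generators, for the Schur multiplier

The generators `a, b, c, d, e, g` of the presentation of the definitions (the generator `f` is the
word `a (cd)^4`), letters `2 i` and `2 i + 1` for the `i`-th generator and its inverse, and the
relators introduced at each step of the chain
`<a> < <a,b> < <a,b,c> < <a,b,c,d> < <a,b,c,d,e> = L3(7):2 < O'N`.
-/

set_option autoImplicit false

namespace Cfsg.Agent.Helper9.ONM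

/-- the orders of the generators `a, b, c, d, e, g`. -/
def mm (i : ℕ) : ℕ := if i = 5 then 4 else 2

/-- the relators of step 1: `(ab)^3`. -/
def EX1 : List (List ℕ) := [[0, 2, 0, 2, 0, 2]]

/-- the relators of step 2: `(bc)^3, (ac)^2`. -/
def EX2 : List (List ℕ) := [[2, 4, 2, 4, 2, 4], [0, 4, 0, 4]]

/-- the relators of step 3: `(cd)^8, (ad)^2, (bd)^2, (b f)^2` with `f = a (cd)^4`. -/
def EX3 : List (List ℕ) := [[4, 6, 4, 6, 4, 6, 4, 6, 4, 6, 4, 6, 4, 6, 4, 6], [0, 6, 0, 6], [2, 6, 2, 6], [2, 0, 4, 6, 4, 6, 4, 6, 4, 6, 2, 0, 4, 6, 4, 6, 4, 6, 4, 6]]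

/-- the relators of step 4: `(de)^3, (ae)^2, (be)^2, (ce)^2, (e f)^3`. -/
def EX4 : List (List ℕ) := [[6, 8, 6, 8, 6, 8], [0, 8, 0, 8], [2, 8, 2, 8], [4, 8, 4, 8], [8, 0, 4, 6, 4, 6, 4, 6, 4, 6, 8, 0, 4, 6, 4, 6, 4, 6, 4, 6, 8, 0, 4, 6, 4, 6, 4, 6, 4, 6]]

/-- the relators of step 5: the relators of the definitions containing `g`. -/
def EX5 : List (List ℕ) := [[10, 10, 6, 4, 6, 4, 6, 4, 6, 4], [4, 11, 6, 11, 6, 4, 6, 10, 6, 10], [6, 11, 4, 11, 4, 6, 4, 10, 4, 10], [2, 4, 6, 10, 2, 4, 6, 10, 2, 4, 6, 10, 2, 4, 6, 10, 2, 4, 6, 10], [10, 2, 4, 10, 4, 2, 10, 2, 4, 10, 4], [10, 8, 6, 10, 6, 8, 10, 8, 6, 10, 6]]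

/-- the central words of `<a,b>`. -/
def C1 : List (List ℕ) := EX1

/-- the central words of step 2. -/
def C2 : List (List ℕ) := EX2 ++ C1

/-- the central words of step 3. -/
def C3 : List (List ℕ) := EX3 ++ C2

/-- the central words of step 4. -/
def C4 : List (List ℕ) := EX4 ++ C3

/-- the central words of step 5. -/
def C5 : List (List ℕ) := EX5 ++ C4

end Cfsg.Agent.Helper9.ONM
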