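import Mathlib
import Cfsg.Agent.Helper9.ONO.Tau
import Cfsg.Agent.Helper9.ONM.Pres
import Cfsg.Agent.Helper5.StemPI

/-!
# Generators of the O'Nan group on the 122760 points, for the Schur multiplier

The six generators `a, b, c, d, e, g` of the presentation of the definitions as elements of the
group on the 122760 points, their orders, the relators of the chain, and generation.
-/

set_option autoImplicit false

namespace Cfsg.Agent.Helper9.ONM

open Cfsg Cfsg.Spor Cfsg.Agent.Helper9.ON Cfsg.Agent.Helper9.ONS Cfsg.Agent.Helper9.ONO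
open Cfsg.Agent.Helper5.StemP Cfsg.Agent.Helper5.ONTC Cfsg.Agent.S1692

/-- the group on the 122760 points. -/
abbrev P : Type := ↥ONP

instance finP : Finite P := finite_ONP

theorem card_P : Nat.card P = 460815505920 := card_ONP'

/-- the letter of the `i`-th generator. -/
def gl (i : ℕ) : ℕ := if i < 5 then i else 6

theorem gl_lt (i : ℕ) : gl i < 8 := by
  unfold gl
  split_ifs <;> omega

/-- the generators `a, b, c, d, e, g`. -/
noncomputable def g (i : ℕ) : P := ⟨sg (gl i), sg_mem (gl_lt i)⟩

/-- the letter of a letter of the covering presentation. -/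
def lm (c : ℕ) : ℕ := if c = 11 then 7 else gl (c / 2)

theorem lm_lt (c : ℕ) : lm c < 8 := by
  unfold lm
  split_ifs
  · omega
  · exact gl_lt _

theorem coe_lval (c : ℕ) (hc : c < 12) : ((lval g c : P) : Equiv.Perm (Fin nP)) = sg (lm c) := by
  have h7 : (sg 6)⁻¹ = sg 7 := sg_inv 6
  have hi : ∀ x, x < 6 → (sg x)⁻¹ = sg x := by
    intro x hx
    rw [sg_inv x]
    interval_cases x <;> rfl
  interval_cases c
  · rfl
  · exact hi 0 (by norm_num)
  · rfl
  · exact hi 1 (by norm_num)
  · rfl
  · exact hi 2 (by norm_num)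
  · rfl
  · exact hi 3 (by norm_num)
  · rfl
  · exact hi 4 (by norm_num)
  · rfl
  · exact h7

theorem coe_word : ∀ l : List ℕ, (∀ c ∈ l, c < 12) →
    (((l.map (lval g)).prod : P) : Equiv.Perm (Fin nP)) = pW (l.map lm)
  | [], _ => rfl
  | c :: l, h => by
    rw [List.map_cons, List.prod_cons, Subgroup.coe_mul, coe_lval c (h c List.mem_cons_self),
      coe_word l (fun c hc => h c (List.mem_cons_of_mem _ hc))]
    rfl

theorem map_lm_lt (l : List ℕ) : ∀ x ∈ l.map lm, x < 8 := by
  intro x hx
  obtain ⟨c, _, rfl⟩ := List.mem_map.mp hx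
  exact lm_lt c

/-- a word in the generators that fixes the base is trivial. -/
theorem word_eq_one (l : List ℕ) (hl : ∀ c ∈ l, c < 12)
    (h : agr3 (evC (l.map lm)) (fun v => v) = true) : (l.map (lval g)).prod = 1 := by
  apply Subtype.ext
  rw [coe_word l hl]
  exact eq_one_of_agr3 (pW_mem _ (map_lm_lt l)) (cp_pW _ (map_lm_lt l)) h

theorem C5_lt : ∀ r ∈ C5, ∀ c ∈ r, c < 2 * 6 := by decide

set_option maxRecDepth 1000000 in
theorem chk_rels : ∀ r ∈ C5, agr3 (evC (r.map lm)) (fun v => v) = true := by decide +kernel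

theorem C5_rel : ∀ r ∈ C5, (r.map (lval g)).prod = 1 := fun r hr =>
  word_eq_one r (C5_lt r hr) (chk_rels r hr)

theorem C52_lt : ∀ r ∈ C5 ++ C5, ∀ c ∈ r, c < 2 * 6 := by
  intro r hr
  rcases List.mem_append.mp hr with h | h <;> exact C5_lt r h

theorem C52_rel : ∀ r ∈ C5 ++ C5, (r.map (lval g)).prod = 1 := by
  intro r hr
  rcases List.mem_append.mp hr with h | h <;> exact C5_rel r h

set_option maxRecDepth 1000000 in
theorem chk_pow : ∀ i, i < 6 →
    agr3 (evC ((List.replicate (mm i) (2 * i)).map lm)) (fun v => v) = true := by decide +kernel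

theorem g_pow : ∀ i, i < 6 → g i ^ mm i = 1 := by
  intro i hi
  have h1 : ((List.replicate (mm i) (2 * i)).map (lval g)).prod = 1 := by
    apply word_eq_one _ _ (chk_pow i hi)
    intro c hc
    rw [List.eq_of_mem_replicate hc]
    omega
  rwa [List.map_replicate, List.prod_replicate, lval_even] at h1

/-! ### generation -/

/-- the word of the generator `f`. -/
def fW : List ℕ := [0, 2, 3, 2, 3, 2, 3, 2, 3]

theorem fW_lt : ∀ x ∈ fW, x < 8 := by decide

theorem fW_lt5 : ∀ x ∈ fW, x < 5 := by decide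

set_option maxRecDepth 1000000 in
theorem chk_f : agr3 (ctF 5) (evC fW) = true := by decide +kernel

theorem sg5_eq : sg 5 = pW fW :=
  eq_of_agr3 (sg_mem (by norm_num)) (pW_mem _ fW_lt) (cp_sg (by norm_num)) (cp_pW _ fW_lt) chk_f

/-- the six generators as permutations. -/
def gset : Set (Equiv.Perm (Fin nP)) := {y | ∃ i, i < 6 ∧ y = sg (gl i)}

theorem sg_mem_gset {x : ℕ} (hx : x < 5 ∨ x = 6) : sg x ∈ Subgroup.closure gset := by
  apply Subgroup.subset_closure
  rcases hx with h | rfl
  · exact ⟨x, by omega, by unfold gl; rw [if_pos h]⟩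
  · exact ⟨5, by norm_num, rfl⟩

theorem closure_gset : Subgroup.closure gset = ONP := by
  apply le_antisymm
  · rw [Subgroup.closure_le]
    rintro x ⟨i, _, rfl⟩
    exact sg_mem (gl_lt i)
  · unfold ONP
    rw [MonoidHom.range_eq_map, ← PresentedGroup.closure_range_of, MonoidHom.map_closure,
      Subgroup.closure_le]
    rintro _ ⟨_, ⟨z, rfl⟩, rfl⟩
    rw [phi_of]
    cases z
    · exact sg_mem_gset (Or.inr rfl)
    · exact sg_mem_gset (Or.inl (by decide))
    · exact sg_mem_gset (Or.inl (by decide))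
    · exact sg_mem_gset (Or.inl (by decide))
    · exact sg_mem_gset (Or.inl (by decide))
    · exact sg_mem_gset (Or.inl (by decide))
    · change sg 5 ∈ _
      rw [sg5_eq]
      apply Subgroup.list_prod_mem
      intro p hp
      obtain ⟨x, hx, rfl⟩ := List.mem_map.1 hp
      apply sg_mem_gset
      exact Or.inl (fW_lt5 x hx)

/-- the six generators generate the group. -/
theorem g_closure : Subgroup.closure {y : P | ∃ i, i < 6 ∧ y = g i} = ⊤ := by
  apply Subgroup.map_injective ONP.subtype_injective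
  rw [MonoidHom.map_closure, ← MonoidHom.range_eq_map, Subgroup.range_subtype]
  have e : (ONP.subtype '' {y : P | ∃ i, i < 6 ∧ y = g i}) = gset := by
    ext y
    constructor
    · rintro ⟨_, ⟨i, hi, rfl⟩, rfl⟩
      exact ⟨i, hi, rfl⟩
    · rintro ⟨i, hi, rfl⟩
      exact ⟨g i, ⟨i, hi, rfl⟩, rfl⟩
  rw [e]
  exact closure_gset

end Cfsg.Agent.Helper9.ONM
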