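import Cfsg.Agent.Helper9.ONM.MMDat

/-! generated permutation model, checks: MM -/

set_option autoImplicit false
set_option Elab.async false
set_option maxRecDepth 1000000

namespace Cfsg.Agent.Helper9.ONM.MM
open Cfsg.Agent.Helper5.TC Cfsg.Agent.Helper5.TCI Cfsg.Agent.Helper5.LP

theorem invc_0_50000 : invRowFI mT 368280 0 1 50000 50000 = true := by decide +kernel

theorem invc_5_300000 : invRowFI mT 368280 5 4 50000 300000 = true := by decide +kernel

theorem invc_11_200000 : invRowFI mT 368280 11 10 50000 200000 = true := by decide +kernel

theorem fixc_1_225000 : fixPtsF W_1 25000 225000 = true := by decide +kernel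

theorem fixc_4_175000 : fixPtsF W_4 25000 175000 = true := by decide +kernel

theorem fixc_6_190000 : fixPtsF W_6 10000 190000 = true := by decide +kernel

theorem fixc_7_230000 : fixPtsF W_7 10000 230000 = true := by decide +kernel

theorem fixc_8_270000 : fixPtsF W_8 10000 270000 = true := by decide +kernel

theorem fixc_15_75000 : fixPtsF W_15 25000 75000 = true := by decide +kernel

theorem fixc_17_181250 : fixPtsF W_17 6250 181250 = true := by decide +kernel

theorem fixc_18_275000 : fixPtsF W_18 25000 275000 = true := by decide +kernel

theorem fixc_20_115000 : fixPtsF W_20 5000 115000 = true := by decide +kernel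

theorem fixc_20_315000 : fixPtsF W_20 5000 315000 = true := by decide +kernel

theorem fixc_26_100000 : fixPtsF W_26 50000 100000 = true := by decide +kernel

theorem fixc_10_16666 : fixPtsF W_10 8333 16666 = true := by decide +kernel

theorem fixc_10_308321 : fixPtsF W_10 8333 308321 = true := by decide +kernel

theorem fixc_11_274989 : fixPtsF W_11 8333 274989 = true := by decide +kernel

theorem fixc_21_116662 : fixPtsF W_21 16666 116662 = true := by decide +kernel

theorem fixc_16_13332 : fixPtsF W_16 3333 13332 = true := by decide +kernel

theorem fixc_16_146652 : fixPtsF W_16 3333 146652 = true := by decide +kernel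

theorem fixc_16_279972 : fixPtsF W_16 3333 279972 = true := by decide +kernel

theorem fixc_9_119025 : fixPtsF W_9 4761 119025 = true := by decide +kernel

theorem fixc_9_309465 : fixPtsF W_9 4761 309465 = true := by decide +kernel

theorem fixc_21_366652 : fixPtsF W_21 1628 366652 = true := by decide +kernel

end Cfsg.Agent.Helper9.ONM.MM
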