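import Cfsg.Agent.Helper9.ONM.MMDat

/-! generated permutation model, checks: MM -/

set_option autoImplicit false
set_option Elab.async false
set_option maxRecDepth 1000000

namespace Cfsg.Agent.Helper9.ONM.MM
open Cfsg.Agent.Helper5.TC Cfsg.Agent.Helper5.TCI Cfsg.Agent.Helper5.LP

theorem invc_1_150000 : invRowFI mT 368280 1 0 50000 150000 = true := by decide +kernel

theorem invc_7_50000 : invRowFI mT 368280 7 6 50000 50000 = true := by decide +kernel

theorem invc_12_300000 : invRowFI mT 368280 12 13 50000 300000 = true := by decide +kernel

theorem fixc_2_100000 : fixPtsF W_2 25000 100000 = true := by decide +kernel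

theorem fixc_5_50000 : fixPtsF W_5 25000 50000 = true := by decide +kernel

theorem fixc_6_280000 : fixPtsF W_6 10000 280000 = true := by decide +kernel

theorem fixc_7_320000 : fixPtsF W_7 10000 320000 = true := by decide +kernel

theorem fixc_13_0 : fixPtsF W_13 25000 0 = true := by decide +kernel

theorem fixc_15_300000 : fixPtsF W_15 25000 300000 = true := by decide +kernel

theorem fixc_17_237500 : fixPtsF W_17 6250 237500 = true := by decide +kernel

theorem fixc_19_150000 : fixPtsF W_19 25000 150000 = true := by decide +kernel

theorem fixc_20_160000 : fixPtsF W_20 5000 160000 = true := by decide +kernel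

theorem fixc_20_360000 : fixPtsF W_20 5000 360000 = true := by decide +kernel

theorem fixc_27_200000 : fixPtsF W_27 50000 200000 = true := by decide +kernel

theorem fixc_10_91663 : fixPtsF W_10 8333 91663 = true := by decide +kernel

theorem fixc_11_16666 : fixPtsF W_11 8333 16666 = true := by decide +kernel

theorem fixc_11_349986 : fixPtsF W_11 8333 349986 = true := by decide +kernel

theorem fixc_21_266656 : fixPtsF W_21 16666 266656 = true := by decide +kernel

theorem fixc_16_43329 : fixPtsF W_16 3333 43329 = true := by decide +kernel

theorem fixc_16_176649 : fixPtsF W_16 3333 176649 = true := by decide +kernel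

theorem fixc_16_309969 : fixPtsF W_16 3333 309969 = true := by decide +kernel

theorem fixc_9_161874 : fixPtsF W_9 4761 161874 = true := by decide +kernel

theorem fixc_9_352314 : fixPtsF W_9 4761 352314 = true := by decide +kernel

end Cfsg.Agent.Helper9.ONM.MM
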