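import Cfsg.Agent.Helper9.ONM.MMDat

/-! generated permutation model, checks: MM -/

set_option autoImplicit false
set_option Elab.async false
set_option maxRecDepth 1000000

namespace Cfsg.Agent.Helper9.ONM.MM
open Cfsg.Agent.Helper5.TC Cfsg.Agent.Helper5.TCI Cfsg.Agent.Helper5.LP

theorem invc_1_200000 : invRowFI mT 368280 1 0 50000 200000 = true := by decide +kernel

theorem invc_7_100000 : invRowFI mT 368280 7 6 50000 100000 = true := by decide +kernel

theorem invc_13_0 : invRowFI mT 368280 13 12 50000 0 = true := by decide +kernel

theorem fixc_2_125000 : fixPtsF W_2 25000 125000 = true := by decide +kernel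

theorem fixc_5_75000 : fixPtsF W_5 25000 75000 = true := by decide +kernel

theorem fixc_6_290000 : fixPtsF W_6 10000 290000 = true := by decide +kernel

theorem fixc_7_330000 : fixPtsF W_7 10000 330000 = true := by decide +kernel

theorem fixc_13_25000 : fixPtsF W_13 25000 25000 = true := by decide +kernel

theorem fixc_15_325000 : fixPtsF W_15 25000 325000 = true := by decide +kernel

theorem fixc_17_243750 : fixPtsF W_17 6250 243750 = true := by decide +kernel

theorem fixc_19_175000 : fixPtsF W_19 25000 175000 = true := by decide +kernel

theorem fixc_20_165000 : fixPtsF W_20 5000 165000 = true := by decide +kernel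

theorem fixc_22_0 : fixPtsF W_22 25000 0 = true := by decide +kernel

theorem fixc_27_250000 : fixPtsF W_27 50000 250000 = true := by decide +kernel

theorem fixc_10_99996 : fixPtsF W_10 8333 99996 = true := by decide +kernel

theorem fixc_11_24999 : fixPtsF W_11 8333 24999 = true := by decide +kernel

theorem fixc_11_358319 : fixPtsF W_11 8333 358319 = true := by decide +kernel

theorem fixc_21_283322 : fixPtsF W_21 16666 283322 = true := by decide +kernel

theorem fixc_16_46662 : fixPtsF W_16 3333 46662 = true := by decide +kernel

theorem fixc_16_179982 : fixPtsF W_16 3333 179982 = true := by decide +kernel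

theorem fixc_16_313302 : fixPtsF W_16 3333 313302 = true := by decide +kernel

theorem fixc_9_166635 : fixPtsF W_9 4761 166635 = true := by decide +kernel

theorem fixc_9_357075 : fixPtsF W_9 4761 357075 = true := by decide +kernel

end Cfsg.Agent.Helper9.ONM.MM
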