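import Cfsg.Agent.Helper9.ONM.MMDat

/-! generated permutation model, checks: MM -/

set_option autoImplicit false
set_option Elab.async false
set_option maxRecDepth 1000000

namespace Cfsg.Agent.Helper9.ONM.MM
open Cfsg.Agent.Helper5.TC Cfsg.Agent.Helper5.TCI Cfsg.Agent.Helper5.LP

theorem invc_1_250000 : invRowFI mT 368280 1 0 50000 250000 = true := by decide +kernel

theorem invc_7_150000 : invRowFI mT 368280 7 6 50000 150000 = true := by decide +kernel

theorem invc_13_50000 : invRowFI mT 368280 13 12 50000 50000 = true := by decide +kernel

theorem fixc_2_150000 : fixPtsF W_2 25000 150000 = true := by decide +kernel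

theorem fixc_5_100000 : fixPtsF W_5 25000 100000 = true := by decide +kernel

theorem fixc_6_300000 : fixPtsF W_6 10000 300000 = true := by decide +kernel

theorem fixc_7_340000 : fixPtsF W_7 10000 340000 = true := by decide +kernel

theorem fixc_13_50000 : fixPtsF W_13 25000 50000 = true := by decide +kernel

theorem fixc_17_0 : fixPtsF W_17 6250 0 = true := by decide +kernel

theorem fixc_17_250000 : fixPtsF W_17 6250 250000 = true := by decide +kernel

theorem fixc_19_200000 : fixPtsF W_19 25000 200000 = true := by decide +kernel

theorem fixc_20_170000 : fixPtsF W_20 5000 170000 = true := by decide +kernel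

theorem fixc_22_25000 : fixPtsF W_22 25000 25000 = true := by decide +kernel

theorem fixc_27_300000 : fixPtsF W_27 50000 300000 = true := by decide +kernel

theorem fixc_10_108329 : fixPtsF W_10 8333 108329 = true := by decide +kernel

theorem fixc_11_33332 : fixPtsF W_11 8333 33332 = true := by decide +kernel

theorem fixc_12_0 : fixPtsF W_12 16666 0 = true := by decide +kernel

theorem fixc_21_299988 : fixPtsF W_21 16666 299988 = true := by decide +kernel

theorem fixc_16_49995 : fixPtsF W_16 3333 49995 = true := by decide +kernel

theorem fixc_16_183315 : fixPtsF W_16 3333 183315 = true := by decide +kernel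

theorem fixc_16_316635 : fixPtsF W_16 3333 316635 = true := by decide +kernel

theorem fixc_9_171396 : fixPtsF W_9 4761 171396 = true := by decide +kernel

theorem fixc_9_361836 : fixPtsF W_9 4761 361836 = true := by decide +kernel

end Cfsg.Agent.Helper9.ONM.MM
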