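import Cfsg.Agent.Helper9.ONM.MMDat

/-! generated permutation model, checks: MM -/

set_option autoImplicit false
set_option Elab.async false
set_option maxRecDepth 1000000

namespace Cfsg.Agent.Helper9.ONM.MM
open Cfsg.Agent.Helper5.TC Cfsg.Agent.Helper5.TCI Cfsg.Agent.Helper5.LP

theorem invc_2_0 : invRowFI mT 368280 2 3 50000 0 = true := by decide +kernel

theorem invc_7_250000 : invRowFI mT 368280 7 6 50000 250000 = true := by decide +kernel

theorem invc_13_150000 : invRowFI mT 368280 13 12 50000 150000 = true := by decide +kernel

theorem fixc_2_200000 : fixPtsF W_2 25000 200000 = true := by decide +kernel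

theorem fixc_5_150000 : fixPtsF W_5 25000 150000 = true := by decide +kernel

theorem fixc_6_320000 : fixPtsF W_6 10000 320000 = true := by decide +kernel

theorem fixc_8_0 : fixPtsF W_8 10000 0 = true := by decide +kernel

theorem fixc_13_100000 : fixPtsF W_13 25000 100000 = true := by decide +kernel

theorem fixc_17_12500 : fixPtsF W_17 6250 12500 = true := by decide +kernel

theorem fixc_17_262500 : fixPtsF W_17 6250 262500 = true := by decide +kernel

theorem fixc_19_250000 : fixPtsF W_19 25000 250000 = true := by decide +kernel

theorem fixc_20_180000 : fixPtsF W_20 5000 180000 = true := by decide +kernel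

theorem fixc_22_75000 : fixPtsF W_22 25000 75000 = true := by decide +kernel

theorem fixc_28_50000 : fixPtsF W_28 50000 50000 = true := by decide +kernel

theorem fixc_10_124995 : fixPtsF W_10 8333 124995 = true := by decide +kernel

theorem fixc_11_49998 : fixPtsF W_11 8333 49998 = true := by decide +kernel

theorem fixc_12_33332 : fixPtsF W_12 16666 33332 = true := by decide +kernel

theorem fixc_21_333320 : fixPtsF W_21 16666 333320 = true := by decide +kernel

theorem fixc_16_56661 : fixPtsF W_16 3333 56661 = true := by decide +kernel

theorem fixc_16_189981 : fixPtsF W_16 3333 189981 = true := by decide +kernel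

theorem fixc_16_323301 : fixPtsF W_16 3333 323301 = true := by decide +kernel

theorem fixc_9_180918 : fixPtsF W_9 4761 180918 = true := by decide +kernel

theorem fixc_6_360000 : fixPtsF W_6 8280 360000 = true := by decide +kernel

theorem invc_5_350000 : invRowFI mT 368280 5 4 18280 350000 = true := by decide +kernel

end Cfsg.Agent.Helper9.ONM.MM
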