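import Cfsg.Agent.Helper9.ONM.MMDat

/-! generated permutation model, checks: MM -/

set_option autoImplicit false
set_option Elab.async false
set_option maxRecDepth 1000000

namespace Cfsg.Agent.Helper9.ONM.MM
open Cfsg.Agent.Helper5.TC Cfsg.Agent.Helper5.TCI Cfsg.Agent.Helper5.LP

theorem invc_2_50000 : invRowFI mT 368280 2 3 50000 50000 = true := by decide +kernel

theorem invc_7_300000 : invRowFI mT 368280 7 6 50000 300000 = true := by decide +kernel

theorem invc_13_200000 : invRowFI mT 368280 13 12 50000 200000 = true := by decide +kernel

theorem fixc_2_225000 : fixPtsF W_2 25000 225000 = true := by decide +kernel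

theorem fixc_5_175000 : fixPtsF W_5 25000 175000 = true := by decide +kernel

theorem fixc_6_330000 : fixPtsF W_6 10000 330000 = true := by decide +kernel

theorem fixc_8_10000 : fixPtsF W_8 10000 10000 = true := by decide +kernel

theorem fixc_13_125000 : fixPtsF W_13 25000 125000 = true := by decide +kernel

theorem fixc_17_18750 : fixPtsF W_17 6250 18750 = true := by decide +kernel

theorem fixc_17_268750 : fixPtsF W_17 6250 268750 = true := by decide +kernel

theorem fixc_19_275000 : fixPtsF W_19 25000 275000 = true := by decide +kernel

theorem fixc_20_185000 : fixPtsF W_20 5000 185000 = true := by decide +kernel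

theorem fixc_22_100000 : fixPtsF W_22 25000 100000 = true := by decide +kernel

theorem fixc_28_100000 : fixPtsF W_28 50000 100000 = true := by decide +kernel

theorem fixc_10_133328 : fixPtsF W_10 8333 133328 = true := by decide +kernel

theorem fixc_11_58331 : fixPtsF W_11 8333 58331 = true := by decide +kernel

theorem fixc_12_49998 : fixPtsF W_12 16666 49998 = true := by decide +kernel

theorem fixc_21_349986 : fixPtsF W_21 16666 349986 = true := by decide +kernel

theorem fixc_16_59994 : fixPtsF W_16 3333 59994 = true := by decide +kernel

theorem fixc_16_193314 : fixPtsF W_16 3333 193314 = true := by decide +kernel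

theorem fixc_16_326634 : fixPtsF W_16 3333 326634 = true := by decide +kernel

theorem fixc_9_185679 : fixPtsF W_9 4761 185679 = true := by decide +kernel

theorem fixc_7_360000 : fixPtsF W_7 8280 360000 = true := by decide +kernel

theorem invc_6_350000 : invRowFI mT 368280 6 7 18280 350000 = true := by decide +kernel

end Cfsg.Agent.Helper9.ONM.MM
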