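import Cfsg.Agent.Helper9.ONM.MMDat

/-! generated permutation model, checks: MM -/

set_option autoImplicit false
set_option Elab.async false
set_option maxRecDepth 1000000

namespace Cfsg.Agent.Helper9.ONM.MM
open Cfsg.Agent.Helper5.TC Cfsg.Agent.Helper5.TCI Cfsg.Agent.Helper5.LP

theorem invc_2_100000 : invRowFI mT 368280 2 3 50000 100000 = true := by decide +kernel

theorem invc_8_0 : invRowFI mT 368280 8 9 50000 0 = true := by decide +kernel

theorem invc_13_250000 : invRowFI mT 368280 13 12 50000 250000 = true := by decide +kernel

theorem fixc_2_250000 : fixPtsF W_2 25000 250000 = true := by decide +kernel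

theorem fixc_5_200000 : fixPtsF W_5 25000 200000 = true := by decide +kernel

theorem fixc_6_340000 : fixPtsF W_6 10000 340000 = true := by decide +kernel

theorem fixc_8_20000 : fixPtsF W_8 10000 20000 = true := by decide +kernel

theorem fixc_13_150000 : fixPtsF W_13 25000 150000 = true := by decide +kernel

theorem fixc_17_25000 : fixPtsF W_17 6250 25000 = true := by decide +kernel

theorem fixc_17_275000 : fixPtsF W_17 6250 275000 = true := by decide +kernel

theorem fixc_19_300000 : fixPtsF W_19 25000 300000 = true := by decide +kernel

theorem fixc_20_190000 : fixPtsF W_20 5000 190000 = true := by decide +kernel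

theorem fixc_22_125000 : fixPtsF W_22 25000 125000 = true := by decide +kernel

theorem fixc_28_150000 : fixPtsF W_28 50000 150000 = true := by decide +kernel

theorem fixc_10_141661 : fixPtsF W_10 8333 141661 = true := by decide +kernel

theorem fixc_11_66664 : fixPtsF W_11 8333 66664 = true := by decide +kernel

theorem fixc_12_66664 : fixPtsF W_12 16666 66664 = true := by decide +kernel

theorem fixc_23_0 : fixPtsF W_23 16666 0 = true := by decide +kernel

theorem fixc_16_63327 : fixPtsF W_16 3333 63327 = true := by decide +kernel

theorem fixc_16_196647 : fixPtsF W_16 3333 196647 = true := by decide +kernel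

theorem fixc_16_329967 : fixPtsF W_16 3333 329967 = true := by decide +kernel

theorem fixc_9_190440 : fixPtsF W_9 4761 190440 = true := by decide +kernel

theorem fixc_8_360000 : fixPtsF W_8 8280 360000 = true := by decide +kernel

theorem invc_7_350000 : invRowFI mT 368280 7 6 18280 350000 = true := by decide +kernel

end Cfsg.Agent.Helper9.ONM.MM
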