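import Cfsg.Agent.Helper9.ONM.MMDat

/-! generated permutation model, checks: MM -/

set_option autoImplicit false
set_option Elab.async false
set_option maxRecDepth 1000000

namespace Cfsg.Agent.Helper9.ONM.MM
open Cfsg.Agent.Helper5.TC Cfsg.Agent.Helper5.TCI Cfsg.Agent.Helper5.LP

theorem invc_2_150000 : invRowFI mT 368280 2 3 50000 150000 = true := by decide +kernel

theorem invc_8_50000 : invRowFI mT 368280 8 9 50000 50000 = true := by decide +kernel

theorem invc_13_300000 : invRowFI mT 368280 13 12 50000 300000 = true := by decide +kernel

theorem fixc_2_275000 : fixPtsF W_2 25000 275000 = true := by decide +kernel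

theorem fixc_5_225000 : fixPtsF W_5 25000 225000 = true := by decide +kernel

theorem fixc_6_350000 : fixPtsF W_6 10000 350000 = true := by decide +kernel

theorem fixc_8_30000 : fixPtsF W_8 10000 30000 = true := by decide +kernel

theorem fixc_13_175000 : fixPtsF W_13 25000 175000 = true := by decide +kernel

theorem fixc_17_31250 : fixPtsF W_17 6250 31250 = true := by decide +kernel

theorem fixc_17_281250 : fixPtsF W_17 6250 281250 = true := by decide +kernel

theorem fixc_19_325000 : fixPtsF W_19 25000 325000 = true := by decide +kernel

theorem fixc_20_195000 : fixPtsF W_20 5000 195000 = true := by decide +kernel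

theorem fixc_22_150000 : fixPtsF W_22 25000 150000 = true := by decide +kernel

theorem fixc_28_200000 : fixPtsF W_28 50000 200000 = true := by decide +kernel

theorem fixc_10_149994 : fixPtsF W_10 8333 149994 = true := by decide +kernel

theorem fixc_11_74997 : fixPtsF W_11 8333 74997 = true := by decide +kernel

theorem fixc_12_83330 : fixPtsF W_12 16666 83330 = true := by decide +kernel

theorem fixc_23_16666 : fixPtsF W_23 16666 16666 = true := by decide +kernel

theorem fixc_16_66660 : fixPtsF W_16 3333 66660 = true := by decide +kernel

theorem fixc_16_199980 : fixPtsF W_16 3333 199980 = true := by decide +kernel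

theorem fixc_16_333300 : fixPtsF W_16 3333 333300 = true := by decide +kernel

theorem fixc_9_195201 : fixPtsF W_9 4761 195201 = true := by decide +kernel

theorem fixc_0_350000 : fixPtsF W_0 18280 350000 = true := by decide +kernel

theorem fixc_19_350000 : fixPtsF W_19 18280 350000 = true := by decide +kernel

end Cfsg.Agent.Helper9.ONM.MM
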