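import Cfsg.Agent.Helper9.ONM.MMDat

/-! generated permutation model, checks: MM -/

set_option autoImplicit false
set_option Elab.async false
set_option maxRecDepth 1000000

namespace Cfsg.Agent.Helper9.ONM.MM
open Cfsg.Agent.Helper5.TC Cfsg.Agent.Helper5.TCI Cfsg.Agent.Helper5.LP

theorem invc_2_200000 : invRowFI mT 368280 2 3 50000 200000 = true := by decide +kernel

theorem invc_8_100000 : invRowFI mT 368280 8 9 50000 100000 = true := by decide +kernel

theorem fixc_0_0 : fixPtsF W_0 25000 0 = true := by decide +kernel

theorem fixc_2_300000 : fixPtsF W_2 25000 300000 = true := by decide +kernel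

theorem fixc_5_250000 : fixPtsF W_5 25000 250000 = true := by decide +kernel

theorem fixc_7_0 : fixPtsF W_7 10000 0 = true := by decide +kernel

theorem fixc_8_40000 : fixPtsF W_8 10000 40000 = true := by decide +kernel

theorem fixc_13_200000 : fixPtsF W_13 25000 200000 = true := by decide +kernel

theorem fixc_17_37500 : fixPtsF W_17 6250 37500 = true := by decide +kernel

theorem fixc_17_287500 : fixPtsF W_17 6250 287500 = true := by decide +kernel

theorem fixc_20_0 : fixPtsF W_20 5000 0 = true := by decide +kernel

theorem fixc_20_200000 : fixPtsF W_20 5000 200000 = true := by decide +kernel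

theorem fixc_22_175000 : fixPtsF W_22 25000 175000 = true := by decide +kernel

theorem fixc_28_250000 : fixPtsF W_28 50000 250000 = true := by decide +kernel

theorem fixc_10_158327 : fixPtsF W_10 8333 158327 = true := by decide +kernel

theorem fixc_11_83330 : fixPtsF W_11 8333 83330 = true := by decide +kernel

theorem fixc_12_99996 : fixPtsF W_12 16666 99996 = true := by decide +kernel

theorem fixc_23_33332 : fixPtsF W_23 16666 33332 = true := by decide +kernel

theorem fixc_16_69993 : fixPtsF W_16 3333 69993 = true := by decide +kernel

theorem fixc_16_203313 : fixPtsF W_16 3333 203313 = true := by decide +kernel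

theorem fixc_16_336633 : fixPtsF W_16 3333 336633 = true := by decide +kernel

theorem fixc_9_199962 : fixPtsF W_9 4761 199962 = true := by decide +kernel

theorem fixc_1_350000 : fixPtsF W_1 18280 350000 = true := by decide +kernel

theorem fixc_22_350000 : fixPtsF W_22 18280 350000 = true := by decide +kernel

end Cfsg.Agent.Helper9.ONM.MM
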