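import Cfsg.Agent.Helper9.ONM.MMDat

/-! generated permutation model, checks: MM -/

set_option autoImplicit false
set_option Elab.async false
set_option maxRecDepth 1000000

namespace Cfsg.Agent.Helper9.ONM.MM
open Cfsg.Agent.Helper5.TC Cfsg.Agent.Helper5.TCI Cfsg.Agent.Helper5.LP

theorem invc_2_250000 : invRowFI mT 368280 2 3 50000 250000 = true := by decide +kernel

theorem invc_8_150000 : invRowFI mT 368280 8 9 50000 150000 = true := by decide +kernel

theorem fixc_0_25000 : fixPtsF W_0 25000 25000 = true := by decide +kernel

theorem fixc_2_325000 : fixPtsF W_2 25000 325000 = true := by decide +kernel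

theorem fixc_5_275000 : fixPtsF W_5 25000 275000 = true := by decide +kernel

theorem fixc_7_10000 : fixPtsF W_7 10000 10000 = true := by decide +kernel

theorem fixc_8_50000 : fixPtsF W_8 10000 50000 = true := by decide +kernel

theorem fixc_13_225000 : fixPtsF W_13 25000 225000 = true := by decide +kernel

theorem fixc_17_43750 : fixPtsF W_17 6250 43750 = true := by decide +kernel

theorem fixc_17_293750 : fixPtsF W_17 6250 293750 = true := by decide +kernel

theorem fixc_20_5000 : fixPtsF W_20 5000 5000 = true := by decide +kernel

theorem fixc_20_205000 : fixPtsF W_20 5000 205000 = true := by decide +kernel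

theorem fixc_22_200000 : fixPtsF W_22 25000 200000 = true := by decide +kernel

theorem fixc_28_300000 : fixPtsF W_28 50000 300000 = true := by decide +kernel

theorem fixc_10_166660 : fixPtsF W_10 8333 166660 = true := by decide +kernel

theorem fixc_11_91663 : fixPtsF W_11 8333 91663 = true := by decide +kernel

theorem fixc_12_116662 : fixPtsF W_12 16666 116662 = true := by decide +kernel

theorem fixc_23_49998 : fixPtsF W_23 16666 49998 = true := by decide +kernel

theorem fixc_16_73326 : fixPtsF W_16 3333 73326 = true := by decide +kernel

theorem fixc_16_206646 : fixPtsF W_16 3333 206646 = true := by decide +kernel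

theorem fixc_16_339966 : fixPtsF W_16 3333 339966 = true := by decide +kernel

theorem fixc_9_204723 : fixPtsF W_9 4761 204723 = true := by decide +kernel

theorem fixc_2_350000 : fixPtsF W_2 18280 350000 = true := by decide +kernel

theorem fixc_29_350000 : fixPtsF W_29 18280 350000 = true := by decide +kernel

end Cfsg.Agent.Helper9.ONM.MM
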