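import Cfsg.Agent.Helper9.ONM.MMDat

/-! generated permutation model, checks: MM -/

set_option autoImplicit false
set_option Elab.async false
set_option maxRecDepth 1000000

namespace Cfsg.Agent.Helper9.ONM.MM
open Cfsg.Agent.Helper5.TC Cfsg.Agent.Helper5.TCI Cfsg.Agent.Helper5.LP

theorem invc_0_100000 : invRowFI mT 368280 0 1 50000 100000 = true := by decide +kernel

theorem invc_6_0 : invRowFI mT 368280 6 7 50000 0 = true := by decide +kernel

theorem invc_11_250000 : invRowFI mT 368280 11 10 50000 250000 = true := by decide +kernel

theorem fixc_1_250000 : fixPtsF W_1 25000 250000 = true := by decide +kernel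

theorem fixc_4_200000 : fixPtsF W_4 25000 200000 = true := by decide +kernel

theorem fixc_6_200000 : fixPtsF W_6 10000 200000 = true := by decide +kernel

theorem fixc_7_240000 : fixPtsF W_7 10000 240000 = true := by decide +kernel

theorem fixc_8_280000 : fixPtsF W_8 10000 280000 = true := by decide +kernel

theorem fixc_15_100000 : fixPtsF W_15 25000 100000 = true := by decide +kernel

theorem fixc_17_187500 : fixPtsF W_17 6250 187500 = true := by decide +kernel

theorem fixc_18_300000 : fixPtsF W_18 25000 300000 = true := by decide +kernel

theorem fixc_20_120000 : fixPtsF W_20 5000 120000 = true := by decide +kernel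

theorem fixc_20_320000 : fixPtsF W_20 5000 320000 = true := by decide +kernel

theorem fixc_26_150000 : fixPtsF W_26 50000 150000 = true := by decide +kernel

theorem fixc_10_24999 : fixPtsF W_10 8333 24999 = true := by decide +kernel

theorem fixc_10_316654 : fixPtsF W_10 8333 316654 = true := by decide +kernel

theorem fixc_11_283322 : fixPtsF W_11 8333 283322 = true := by decide +kernel

theorem fixc_21_133328 : fixPtsF W_21 16666 133328 = true := by decide +kernel

theorem fixc_16_16665 : fixPtsF W_16 3333 16665 = true := by decide +kernel

theorem fixc_16_149985 : fixPtsF W_16 3333 149985 = true := by decide +kernel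

theorem fixc_16_283305 : fixPtsF W_16 3333 283305 = true := by decide +kernel

theorem fixc_9_123786 : fixPtsF W_9 4761 123786 = true := by decide +kernel

theorem fixc_9_314226 : fixPtsF W_9 4761 314226 = true := by decide +kernel

theorem fixc_23_366652 : fixPtsF W_23 1628 366652 = true := by decide +kernel

end Cfsg.Agent.Helper9.ONM.MM
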