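import Cfsg.Agent.Helper9.ONM.MMDat

/-! generated permutation model, checks: MM -/

set_option autoImplicit false
set_option Elab.async false
set_option maxRecDepth 1000000

namespace Cfsg.Agent.Helper9.ONM.MM
open Cfsg.Agent.Helper5.TC Cfsg.Agent.Helper5.TCI Cfsg.Agent.Helper5.LP

theorem invc_2_300000 : invRowFI mT 368280 2 3 50000 300000 = true := by decide +kernel

theorem invc_8_200000 : invRowFI mT 368280 8 9 50000 200000 = true := by decide +kernel

theorem fixc_0_50000 : fixPtsF W_0 25000 50000 = true := by decide +kernel

theorem fixc_3_0 : fixPtsF W_3 25000 0 = true := by decide +kernel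

theorem fixc_5_300000 : fixPtsF W_5 25000 300000 = true := by decide +kernel

theorem fixc_7_20000 : fixPtsF W_7 10000 20000 = true := by decide +kernel

theorem fixc_8_60000 : fixPtsF W_8 10000 60000 = true := by decide +kernel

theorem fixc_13_250000 : fixPtsF W_13 25000 250000 = true := by decide +kernel

theorem fixc_17_50000 : fixPtsF W_17 6250 50000 = true := by decide +kernel

theorem fixc_17_300000 : fixPtsF W_17 6250 300000 = true := by decide +kernel

theorem fixc_20_10000 : fixPtsF W_20 5000 10000 = true := by decide +kernel

theorem fixc_20_210000 : fixPtsF W_20 5000 210000 = true := by decide +kernel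

theorem fixc_22_225000 : fixPtsF W_22 25000 225000 = true := by decide +kernel

theorem fixc_29_0 : fixPtsF W_29 25000 0 = true := by decide +kernel

theorem fixc_10_174993 : fixPtsF W_10 8333 174993 = true := by decide +kernel

theorem fixc_11_99996 : fixPtsF W_11 8333 99996 = true := by decide +kernel

theorem fixc_12_133328 : fixPtsF W_12 16666 133328 = true := by decide +kernel

theorem fixc_23_66664 : fixPtsF W_23 16666 66664 = true := by decide +kernel

theorem fixc_16_76659 : fixPtsF W_16 3333 76659 = true := by decide +kernel

theorem fixc_16_209979 : fixPtsF W_16 3333 209979 = true := by decide +kernel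

theorem fixc_16_343299 : fixPtsF W_16 3333 343299 = true := by decide +kernel

theorem fixc_9_209484 : fixPtsF W_9 4761 209484 = true := by decide +kernel

theorem fixc_3_350000 : fixPtsF W_3 18280 350000 = true := by decide +kernel

theorem fixc_20_365000 : fixPtsF W_20 3280 365000 = true := by decide +kernel

end Cfsg.Agent.Helper9.ONM.MM
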