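import Cfsg.Agent.Helper9.ONM.MMDat

/-! generated permutation model, checks: MM -/

set_option autoImplicit false
set_option Elab.async false
set_option maxRecDepth 1000000

namespace Cfsg.Agent.Helper9.ONM.MM
open Cfsg.Agent.Helper5.TC Cfsg.Agent.Helper5.TCI Cfsg.Agent.Helper5.LP

theorem invc_3_0 : invRowFI mT 368280 3 2 50000 0 = true := by decide +kernel

theorem invc_8_250000 : invRowFI mT 368280 8 9 50000 250000 = true := by decide +kernel

theorem fixc_0_75000 : fixPtsF W_0 25000 75000 = true := by decide +kernel

theorem fixc_3_25000 : fixPtsF W_3 25000 25000 = true := by decide +kernel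

theorem fixc_5_325000 : fixPtsF W_5 25000 325000 = true := by decide +kernel

theorem fixc_7_30000 : fixPtsF W_7 10000 30000 = true := by decide +kernel

theorem fixc_8_70000 : fixPtsF W_8 10000 70000 = true := by decide +kernel

theorem fixc_13_275000 : fixPtsF W_13 25000 275000 = true := by decide +kernel

theorem fixc_17_56250 : fixPtsF W_17 6250 56250 = true := by decide +kernel

theorem fixc_17_306250 : fixPtsF W_17 6250 306250 = true := by decide +kernel

theorem fixc_20_15000 : fixPtsF W_20 5000 15000 = true := by decide +kernel

theorem fixc_20_215000 : fixPtsF W_20 5000 215000 = true := by decide +kernel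

theorem fixc_22_250000 : fixPtsF W_22 25000 250000 = true := by decide +kernel

theorem fixc_29_25000 : fixPtsF W_29 25000 25000 = true := by decide +kernel

theorem fixc_10_183326 : fixPtsF W_10 8333 183326 = true := by decide +kernel

theorem fixc_11_108329 : fixPtsF W_11 8333 108329 = true := by decide +kernel

theorem fixc_12_149994 : fixPtsF W_12 16666 149994 = true := by decide +kernel

theorem fixc_23_83330 : fixPtsF W_23 16666 83330 = true := by decide +kernel

theorem fixc_16_79992 : fixPtsF W_16 3333 79992 = true := by decide +kernel

theorem fixc_16_213312 : fixPtsF W_16 3333 213312 = true := by decide +kernel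

theorem fixc_16_346632 : fixPtsF W_16 3333 346632 = true := by decide +kernel

theorem fixc_9_214245 : fixPtsF W_9 4761 214245 = true := by decide +kernel

theorem fixc_4_350000 : fixPtsF W_4 18280 350000 = true := by decide +kernel

theorem fixc_16_366630 : fixPtsF W_16 1650 366630 = true := by decide +kernel

end Cfsg.Agent.Helper9.ONM.MM
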