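import Cfsg.Agent.Helper9.ONM.MMDat

/-! generated permutation model, checks: MM -/

set_option autoImplicit false
set_option Elab.async false
set_option maxRecDepth 1000000

namespace Cfsg.Agent.Helper9.ONM.MM
open Cfsg.Agent.Helper5.TC Cfsg.Agent.Helper5.TCI Cfsg.Agent.Helper5.LP

theorem invc_3_50000 : invRowFI mT 368280 3 2 50000 50000 = true := by decide +kernel

theorem invc_8_300000 : invRowFI mT 368280 8 9 50000 300000 = true := by decide +kernel

theorem fixc_0_100000 : fixPtsF W_0 25000 100000 = true := by decide +kernel

theorem fixc_3_50000 : fixPtsF W_3 25000 50000 = true := by decide +kernel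

theorem fixc_6_0 : fixPtsF W_6 10000 0 = true := by decide +kernel

theorem fixc_7_40000 : fixPtsF W_7 10000 40000 = true := by decide +kernel

theorem fixc_8_80000 : fixPtsF W_8 10000 80000 = true := by decide +kernel

theorem fixc_13_300000 : fixPtsF W_13 25000 300000 = true := by decide +kernel

theorem fixc_17_62500 : fixPtsF W_17 6250 62500 = true := by decide +kernel

theorem fixc_17_312500 : fixPtsF W_17 6250 312500 = true := by decide +kernel

theorem fixc_20_20000 : fixPtsF W_20 5000 20000 = true := by decide +kernel

theorem fixc_20_220000 : fixPtsF W_20 5000 220000 = true := by decide +kernel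

theorem fixc_22_275000 : fixPtsF W_22 25000 275000 = true := by decide +kernel

theorem fixc_29_50000 : fixPtsF W_29 25000 50000 = true := by decide +kernel

theorem fixc_10_191659 : fixPtsF W_10 8333 191659 = true := by decide +kernel

theorem fixc_11_116662 : fixPtsF W_11 8333 116662 = true := by decide +kernel

theorem fixc_12_166660 : fixPtsF W_12 16666 166660 = true := by decide +kernel

theorem fixc_23_99996 : fixPtsF W_23 16666 99996 = true := by decide +kernel

theorem fixc_16_83325 : fixPtsF W_16 3333 83325 = true := by decide +kernel

theorem fixc_16_216645 : fixPtsF W_16 3333 216645 = true := by decide +kernel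

theorem fixc_16_349965 : fixPtsF W_16 3333 349965 = true := by decide +kernel

theorem fixc_9_219006 : fixPtsF W_9 4761 219006 = true := by decide +kernel

theorem fixc_5_350000 : fixPtsF W_5 18280 350000 = true := by decide +kernel

theorem invc_0_350000 : invRowFI mT 368280 0 1 18280 350000 = true := by decide +kernel

end Cfsg.Agent.Helper9.ONM.MM
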