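import Cfsg.Agent.Helper9.ONM.MMDat

/-! generated permutation model, checks: MM -/

set_option autoImplicit false
set_option Elab.async false
set_option maxRecDepth 1000000

namespace Cfsg.Agent.Helper9.ONM.MM
open Cfsg.Agent.Helper5.TC Cfsg.Agent.Helper5.TCI Cfsg.Agent.Helper5.LP

theorem invc_3_100000 : invRowFI mT 368280 3 2 50000 100000 = true := by decide +kernel

theorem invc_9_0 : invRowFI mT 368280 9 8 50000 0 = true := by decide +kernel

theorem fixc_0_125000 : fixPtsF W_0 25000 125000 = true := by decide +kernel

theorem fixc_3_75000 : fixPtsF W_3 25000 75000 = true := by decide +kernel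

theorem fixc_6_10000 : fixPtsF W_6 10000 10000 = true := by decide +kernel

theorem fixc_7_50000 : fixPtsF W_7 10000 50000 = true := by decide +kernel

theorem fixc_8_90000 : fixPtsF W_8 10000 90000 = true := by decide +kernel

theorem fixc_13_325000 : fixPtsF W_13 25000 325000 = true := by decide +kernel

theorem fixc_17_68750 : fixPtsF W_17 6250 68750 = true := by decide +kernel

theorem fixc_17_318750 : fixPtsF W_17 6250 318750 = true := by decide +kernel

theorem fixc_20_25000 : fixPtsF W_20 5000 25000 = true := by decide +kernel

theorem fixc_20_225000 : fixPtsF W_20 5000 225000 = true := by decide +kernel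

theorem fixc_22_300000 : fixPtsF W_22 25000 300000 = true := by decide +kernel

theorem fixc_29_75000 : fixPtsF W_29 25000 75000 = true := by decide +kernel

theorem fixc_10_199992 : fixPtsF W_10 8333 199992 = true := by decide +kernel

theorem fixc_11_124995 : fixPtsF W_11 8333 124995 = true := by decide +kernel

theorem fixc_12_183326 : fixPtsF W_12 16666 183326 = true := by decide +kernel

theorem fixc_23_116662 : fixPtsF W_23 16666 116662 = true := by decide +kernel

theorem fixc_16_86658 : fixPtsF W_16 3333 86658 = true := by decide +kernel

theorem fixc_16_219978 : fixPtsF W_16 3333 219978 = true := by decide +kernel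

theorem fixc_16_353298 : fixPtsF W_16 3333 353298 = true := by decide +kernel

theorem fixc_9_223767 : fixPtsF W_9 4761 223767 = true := by decide +kernel

theorem fixc_13_350000 : fixPtsF W_13 18280 350000 = true := by decide +kernel

theorem invc_1_350000 : invRowFI mT 368280 1 0 18280 350000 = true := by decide +kernel

end Cfsg.Agent.Helper9.ONM.MM
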