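import Cfsg.Agent.Helper9.ONM.MMDat

/-! generated permutation model, checks: MM -/

set_option autoImplicit false
set_option Elab.async false
set_option maxRecDepth 1000000

namespace Cfsg.Agent.Helper9.ONM.MM
open Cfsg.Agent.Helper5.TC Cfsg.Agent.Helper5.TCI Cfsg.Agent.Helper5.LP

theorem invc_3_150000 : invRowFI mT 368280 3 2 50000 150000 = true := by decide +kernel

theorem invc_9_50000 : invRowFI mT 368280 9 8 50000 50000 = true := by decide +kernel

theorem fixc_0_150000 : fixPtsF W_0 25000 150000 = true := by decide +kernel

theorem fixc_3_100000 : fixPtsF W_3 25000 100000 = true := by decide +kernel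

theorem fixc_6_20000 : fixPtsF W_6 10000 20000 = true := by decide +kernel

theorem fixc_7_60000 : fixPtsF W_7 10000 60000 = true := by decide +kernel

theorem fixc_8_100000 : fixPtsF W_8 10000 100000 = true := by decide +kernel

theorem fixc_14_0 : fixPtsF W_14 25000 0 = true := by decide +kernel

theorem fixc_17_75000 : fixPtsF W_17 6250 75000 = true := by decide +kernel

theorem fixc_17_325000 : fixPtsF W_17 6250 325000 = true := by decide +kernel

theorem fixc_20_30000 : fixPtsF W_20 5000 30000 = true := by decide +kernel

theorem fixc_20_230000 : fixPtsF W_20 5000 230000 = true := by decide +kernel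

theorem fixc_22_325000 : fixPtsF W_22 25000 325000 = true := by decide +kernel

theorem fixc_29_100000 : fixPtsF W_29 25000 100000 = true := by decide +kernel

theorem fixc_10_208325 : fixPtsF W_10 8333 208325 = true := by decide +kernel

theorem fixc_11_133328 : fixPtsF W_11 8333 133328 = true := by decide +kernel

theorem fixc_12_199992 : fixPtsF W_12 16666 199992 = true := by decide +kernel

theorem fixc_23_133328 : fixPtsF W_23 16666 133328 = true := by decide +kernel

theorem fixc_16_89991 : fixPtsF W_16 3333 89991 = true := by decide +kernel

theorem fixc_16_223311 : fixPtsF W_16 3333 223311 = true := by decide +kernel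

theorem fixc_16_356631 : fixPtsF W_16 3333 356631 = true := by decide +kernel

theorem fixc_9_228528 : fixPtsF W_9 4761 228528 = true := by decide +kernel

theorem fixc_14_350000 : fixPtsF W_14 18280 350000 = true := by decide +kernel

theorem invc_2_350000 : invRowFI mT 368280 2 3 18280 350000 = true := by decide +kernel

end Cfsg.Agent.Helper9.ONM.MM
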