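import Cfsg.Agent.Helper9.ONM.MMDat

/-! generated permutation model, checks: MM -/

set_option autoImplicit false
set_option Elab.async false
set_option maxRecDepth 1000000

namespace Cfsg.Agent.Helper9.ONM.MM
open Cfsg.Agent.Helper5.TC Cfsg.Agent.Helper5.TCI Cfsg.Agent.Helper5.LP

theorem invc_3_200000 : invRowFI mT 368280 3 2 50000 200000 = true := by decide +kernel

theorem invc_9_100000 : invRowFI mT 368280 9 8 50000 100000 = true := by decide +kernel

theorem fixc_0_175000 : fixPtsF W_0 25000 175000 = true := by decide +kernel

theorem fixc_3_125000 : fixPtsF W_3 25000 125000 = true := by decide +kernel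

theorem fixc_6_30000 : fixPtsF W_6 10000 30000 = true := by decide +kernel

theorem fixc_7_70000 : fixPtsF W_7 10000 70000 = true := by decide +kernel

theorem fixc_8_110000 : fixPtsF W_8 10000 110000 = true := by decide +kernel

theorem fixc_14_25000 : fixPtsF W_14 25000 25000 = true := by decide +kernel

theorem fixc_17_81250 : fixPtsF W_17 6250 81250 = true := by decide +kernel

theorem fixc_17_331250 : fixPtsF W_17 6250 331250 = true := by decide +kernel

theorem fixc_20_35000 : fixPtsF W_20 5000 35000 = true := by decide +kernel

theorem fixc_20_235000 : fixPtsF W_20 5000 235000 = true := by decide +kernel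

theorem fixc_24_0 : fixPtsF W_24 50000 0 = true := by decide +kernel

theorem fixc_29_125000 : fixPtsF W_29 25000 125000 = true := by decide +kernel

theorem fixc_10_216658 : fixPtsF W_10 8333 216658 = true := by decide +kernel

theorem fixc_11_141661 : fixPtsF W_11 8333 141661 = true := by decide +kernel

theorem fixc_12_216658 : fixPtsF W_12 16666 216658 = true := by decide +kernel

theorem fixc_23_149994 : fixPtsF W_23 16666 149994 = true := by decide +kernel

theorem fixc_16_93324 : fixPtsF W_16 3333 93324 = true := by decide +kernel

theorem fixc_16_226644 : fixPtsF W_16 3333 226644 = true := by decide +kernel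

theorem fixc_16_359964 : fixPtsF W_16 3333 359964 = true := by decide +kernel

theorem fixc_9_233289 : fixPtsF W_9 4761 233289 = true := by decide +kernel

theorem fixc_15_350000 : fixPtsF W_15 18280 350000 = true := by decide +kernel

theorem invc_3_350000 : invRowFI mT 368280 3 2 18280 350000 = true := by decide +kernel

end Cfsg.Agent.Helper9.ONM.MM
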