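import Cfsg.Agent.Helper9.ONM.MMDat

/-! generated permutation model, checks: MM -/

set_option autoImplicit false
set_option Elab.async false
set_option maxRecDepth 1000000

namespace Cfsg.Agent.Helper9.ONM.MM
open Cfsg.Agent.Helper5.TC Cfsg.Agent.Helper5.TCI Cfsg.Agent.Helper5.LP

theorem invc_3_250000 : invRowFI mT 368280 3 2 50000 250000 = true := by decide +kernel

theorem invc_9_150000 : invRowFI mT 368280 9 8 50000 150000 = true := by decide +kernel

theorem fixc_0_200000 : fixPtsF W_0 25000 200000 = true := by decide +kernel

theorem fixc_3_150000 : fixPtsF W_3 25000 150000 = true := by decide +kernel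

theorem fixc_6_40000 : fixPtsF W_6 10000 40000 = true := by decide +kernel

theorem fixc_7_80000 : fixPtsF W_7 10000 80000 = true := by decide +kernel

theorem fixc_8_120000 : fixPtsF W_8 10000 120000 = true := by decide +kernel

theorem fixc_14_50000 : fixPtsF W_14 25000 50000 = true := by decide +kernel

theorem fixc_17_87500 : fixPtsF W_17 6250 87500 = true := by decide +kernel

theorem fixc_17_337500 : fixPtsF W_17 6250 337500 = true := by decide +kernel

theorem fixc_20_40000 : fixPtsF W_20 5000 40000 = true := by decide +kernel

theorem fixc_20_240000 : fixPtsF W_20 5000 240000 = true := by decide +kernel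

theorem fixc_24_50000 : fixPtsF W_24 50000 50000 = true := by decide +kernel

theorem fixc_29_150000 : fixPtsF W_29 25000 150000 = true := by decide +kernel

theorem fixc_10_224991 : fixPtsF W_10 8333 224991 = true := by decide +kernel

theorem fixc_11_149994 : fixPtsF W_11 8333 149994 = true := by decide +kernel

theorem fixc_12_233324 : fixPtsF W_12 16666 233324 = true := by decide +kernel

theorem fixc_23_166660 : fixPtsF W_23 16666 166660 = true := by decide +kernel

theorem fixc_16_96657 : fixPtsF W_16 3333 96657 = true := by decide +kernel

theorem fixc_16_229977 : fixPtsF W_16 3333 229977 = true := by decide +kernel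

theorem fixc_16_363297 : fixPtsF W_16 3333 363297 = true := by decide +kernel

theorem fixc_9_238050 : fixPtsF W_9 4761 238050 = true := by decide +kernel

theorem fixc_18_350000 : fixPtsF W_18 18280 350000 = true := by decide +kernel

theorem invc_4_350000 : invRowFI mT 368280 4 5 18280 350000 = true := by decide +kernel

end Cfsg.Agent.Helper9.ONM.MM
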