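import Cfsg.Agent.Helper9.ONM.MMDat

/-! generated permutation model, checks: MM -/

set_option autoImplicit false
set_option Elab.async false
set_option maxRecDepth 1000000

namespace Cfsg.Agent.Helper9.ONM.MM
open Cfsg.Agent.Helper5.TC Cfsg.Agent.Helper5.TCI Cfsg.Agent.Helper5.LP

theorem invc_4_0 : invRowFI mT 368280 4 5 50000 0 = true := by decide +kernel

theorem invc_9_250000 : invRowFI mT 368280 9 8 50000 250000 = true := by decide +kernel

theorem fixc_0_250000 : fixPtsF W_0 25000 250000 = true := by decide +kernel

theorem fixc_3_200000 : fixPtsF W_3 25000 200000 = true := by decide +kernel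

theorem fixc_6_60000 : fixPtsF W_6 10000 60000 = true := by decide +kernel

theorem fixc_7_100000 : fixPtsF W_7 10000 100000 = true := by decide +kernel

theorem fixc_8_140000 : fixPtsF W_8 10000 140000 = true := by decide +kernel

theorem fixc_14_100000 : fixPtsF W_14 25000 100000 = true := by decide +kernel

theorem fixc_17_100000 : fixPtsF W_17 6250 100000 = true := by decide +kernel

theorem fixc_17_350000 : fixPtsF W_17 6250 350000 = true := by decide +kernel

theorem fixc_20_50000 : fixPtsF W_20 5000 50000 = true := by decide +kernel

theorem fixc_20_250000 : fixPtsF W_20 5000 250000 = true := by decide +kernel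

theorem fixc_24_150000 : fixPtsF W_24 50000 150000 = true := by decide +kernel

theorem fixc_29_200000 : fixPtsF W_29 25000 200000 = true := by decide +kernel

theorem fixc_10_241657 : fixPtsF W_10 8333 241657 = true := by decide +kernel

theorem fixc_11_166660 : fixPtsF W_11 8333 166660 = true := by decide +kernel

theorem fixc_12_266656 : fixPtsF W_12 16666 266656 = true := by decide +kernel

theorem fixc_23_199992 : fixPtsF W_23 16666 199992 = true := by decide +kernel

theorem fixc_16_103323 : fixPtsF W_16 3333 103323 = true := by decide +kernel

theorem fixc_16_236643 : fixPtsF W_16 3333 236643 = true := by decide +kernel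

theorem fixc_9_4761 : fixPtsF W_9 4761 4761 = true := by decide +kernel

theorem fixc_9_57132 : fixPtsF W_9 4761 57132 = true := by decide +kernel

theorem fixc_9_247572 : fixPtsF W_9 4761 247572 = true := by decide +kernel

theorem invc_10_350000 : invRowFI mT 368280 10 11 18280 350000 = true := by decide +kernel

end Cfsg.Agent.Helper9.ONM.MM
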