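import Cfsg.Agent.Helper9.ONM.MMDat

/-! generated permutation model, checks: MM -/

set_option autoImplicit false
set_option Elab.async false
set_option maxRecDepth 1000000

namespace Cfsg.Agent.Helper9.ONM.MM
open Cfsg.Agent.Helper5.TC Cfsg.Agent.Helper5.TCI Cfsg.Agent.Helper5.LP

theorem invc_4_50000 : invRowFI mT 368280 4 5 50000 50000 = true := by decide +kernel

theorem invc_9_300000 : invRowFI mT 368280 9 8 50000 300000 = true := by decide +kernel

theorem fixc_0_275000 : fixPtsF W_0 25000 275000 = true := by decide +kernel

theorem fixc_3_225000 : fixPtsF W_3 25000 225000 = true := by decide +kernel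

theorem fixc_6_70000 : fixPtsF W_6 10000 70000 = true := by decide +kernel

theorem fixc_7_110000 : fixPtsF W_7 10000 110000 = true := by decide +kernel

theorem fixc_8_150000 : fixPtsF W_8 10000 150000 = true := by decide +kernel

theorem fixc_14_125000 : fixPtsF W_14 25000 125000 = true := by decide +kernel

theorem fixc_17_106250 : fixPtsF W_17 6250 106250 = true := by decide +kernel

theorem fixc_17_356250 : fixPtsF W_17 6250 356250 = true := by decide +kernel

theorem fixc_20_55000 : fixPtsF W_20 5000 55000 = true := by decide +kernel

theorem fixc_20_255000 : fixPtsF W_20 5000 255000 = true := by decide +kernel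

theorem fixc_24_200000 : fixPtsF W_24 50000 200000 = true := by decide +kernel

theorem fixc_29_225000 : fixPtsF W_29 25000 225000 = true := by decide +kernel

theorem fixc_10_249990 : fixPtsF W_10 8333 249990 = true := by decide +kernel

theorem fixc_11_174993 : fixPtsF W_11 8333 174993 = true := by decide +kernel

theorem fixc_12_283322 : fixPtsF W_12 16666 283322 = true := by decide +kernel

theorem fixc_23_216658 : fixPtsF W_23 16666 216658 = true := by decide +kernel

theorem fixc_16_106656 : fixPtsF W_16 3333 106656 = true := by decide +kernel

theorem fixc_16_239976 : fixPtsF W_16 3333 239976 = true := by decide +kernel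

theorem fixc_9_9522 : fixPtsF W_9 4761 9522 = true := by decide +kernel

theorem fixc_9_61893 : fixPtsF W_9 4761 61893 = true := by decide +kernel

theorem fixc_9_252333 : fixPtsF W_9 4761 252333 = true := by decide +kernel

theorem invc_11_350000 : invRowFI mT 368280 11 10 18280 350000 = true := by decide +kernel

end Cfsg.Agent.Helper9.ONM.MM
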