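import Cfsg.Agent.Helper9.ONM.MMDat

/-! generated permutation model, checks: MM -/

set_option autoImplicit false
set_option Elab.async false
set_option maxRecDepth 1000000

namespace Cfsg.Agent.Helper9.ONM.MM
open Cfsg.Agent.Helper5.TC Cfsg.Agent.Helper5.TCI Cfsg.Agent.Helper5.LP

theorem invc_0_150000 : invRowFI mT 368280 0 1 50000 150000 = true := by decide +kernel

theorem invc_6_50000 : invRowFI mT 368280 6 7 50000 50000 = true := by decide +kernel

theorem invc_11_300000 : invRowFI mT 368280 11 10 50000 300000 = true := by decide +kernel

theorem fixc_1_275000 : fixPtsF W_1 25000 275000 = true := by decide +kernel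

theorem fixc_4_225000 : fixPtsF W_4 25000 225000 = true := by decide +kernel

theorem fixc_6_210000 : fixPtsF W_6 10000 210000 = true := by decide +kernel

theorem fixc_7_250000 : fixPtsF W_7 10000 250000 = true := by decide +kernel

theorem fixc_8_290000 : fixPtsF W_8 10000 290000 = true := by decide +kernel

theorem fixc_15_125000 : fixPtsF W_15 25000 125000 = true := by decide +kernel

theorem fixc_17_193750 : fixPtsF W_17 6250 193750 = true := by decide +kernel

theorem fixc_18_325000 : fixPtsF W_18 25000 325000 = true := by decide +kernel

theorem fixc_20_125000 : fixPtsF W_20 5000 125000 = true := by decide +kernel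

theorem fixc_20_325000 : fixPtsF W_20 5000 325000 = true := by decide +kernel

theorem fixc_26_200000 : fixPtsF W_26 50000 200000 = true := by decide +kernel

theorem fixc_10_33332 : fixPtsF W_10 8333 33332 = true := by decide +kernel

theorem fixc_10_324987 : fixPtsF W_10 8333 324987 = true := by decide +kernel

theorem fixc_11_291655 : fixPtsF W_11 8333 291655 = true := by decide +kernel

theorem fixc_21_149994 : fixPtsF W_21 16666 149994 = true := by decide +kernel

theorem fixc_16_19998 : fixPtsF W_16 3333 19998 = true := by decide +kernel

theorem fixc_16_153318 : fixPtsF W_16 3333 153318 = true := by decide +kernel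

theorem fixc_16_286638 : fixPtsF W_16 3333 286638 = true := by decide +kernel

theorem fixc_9_128547 : fixPtsF W_9 4761 128547 = true := by decide +kernel

theorem fixc_9_318987 : fixPtsF W_9 4761 318987 = true := by decide +kernel

theorem fixc_30_366663 : fixPtsF W_30 1617 366663 = true := by decide +kernel

end Cfsg.Agent.Helper9.ONM.MM
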