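import Cfsg.Agent.Helper9.ONM.MMDat

/-! generated permutation model, checks: MM -/

set_option autoImplicit false
set_option Elab.async false
set_option maxRecDepth 1000000

namespace Cfsg.Agent.Helper9.ONM.MM
open Cfsg.Agent.Helper5.TC Cfsg.Agent.Helper5.TCI Cfsg.Agent.Helper5.LP

theorem invc_4_100000 : invRowFI mT 368280 4 5 50000 100000 = true := by decide +kernel

theorem invc_10_0 : invRowFI mT 368280 10 11 50000 0 = true := by decide +kernel

theorem fixc_0_300000 : fixPtsF W_0 25000 300000 = true := by decide +kernel

theorem fixc_3_250000 : fixPtsF W_3 25000 250000 = true := by decide +kernel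

theorem fixc_6_80000 : fixPtsF W_6 10000 80000 = true := by decide +kernel

theorem fixc_7_120000 : fixPtsF W_7 10000 120000 = true := by decide +kernel

theorem fixc_8_160000 : fixPtsF W_8 10000 160000 = true := by decide +kernel

theorem fixc_14_150000 : fixPtsF W_14 25000 150000 = true := by decide +kernel

theorem fixc_17_112500 : fixPtsF W_17 6250 112500 = true := by decide +kernel

theorem fixc_18_0 : fixPtsF W_18 25000 0 = true := by decide +kernel

theorem fixc_20_60000 : fixPtsF W_20 5000 60000 = true := by decide +kernel

theorem fixc_20_260000 : fixPtsF W_20 5000 260000 = true := by decide +kernel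

theorem fixc_24_250000 : fixPtsF W_24 50000 250000 = true := by decide +kernel

theorem fixc_29_250000 : fixPtsF W_29 25000 250000 = true := by decide +kernel

theorem fixc_10_258323 : fixPtsF W_10 8333 258323 = true := by decide +kernel

theorem fixc_11_183326 : fixPtsF W_11 8333 183326 = true := by decide +kernel

theorem fixc_12_299988 : fixPtsF W_12 16666 299988 = true := by decide +kernel

theorem fixc_23_233324 : fixPtsF W_23 16666 233324 = true := by decide +kernel

theorem fixc_16_109989 : fixPtsF W_16 3333 109989 = true := by decide +kernel

theorem fixc_16_243309 : fixPtsF W_16 3333 243309 = true := by decide +kernel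

theorem fixc_9_14283 : fixPtsF W_9 4761 14283 = true := by decide +kernel

theorem fixc_9_66654 : fixPtsF W_9 4761 66654 = true := by decide +kernel

theorem fixc_9_257094 : fixPtsF W_9 4761 257094 = true := by decide +kernel

theorem invc_12_350000 : invRowFI mT 368280 12 13 18280 350000 = true := by decide +kernel

end Cfsg.Agent.Helper9.ONM.MM
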