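import Cfsg.Agent.Helper9.ONM.MMDat

/-! generated permutation model, checks: MM -/

set_option autoImplicit false
set_option Elab.async false
set_option maxRecDepth 1000000

namespace Cfsg.Agent.Helper9.ONM.MM
open Cfsg.Agent.Helper5.TC Cfsg.Agent.Helper5.TCI Cfsg.Agent.Helper5.LP

theorem invc_4_150000 : invRowFI mT 368280 4 5 50000 150000 = true := by decide +kernel

theorem invc_10_50000 : invRowFI mT 368280 10 11 50000 50000 = true := by decide +kernel

theorem fixc_0_325000 : fixPtsF W_0 25000 325000 = true := by decide +kernel

theorem fixc_3_275000 : fixPtsF W_3 25000 275000 = true := by decide +kernel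

theorem fixc_6_90000 : fixPtsF W_6 10000 90000 = true := by decide +kernel

theorem fixc_7_130000 : fixPtsF W_7 10000 130000 = true := by decide +kernel

theorem fixc_8_170000 : fixPtsF W_8 10000 170000 = true := by decide +kernel

theorem fixc_14_175000 : fixPtsF W_14 25000 175000 = true := by decide +kernel

theorem fixc_17_118750 : fixPtsF W_17 6250 118750 = true := by decide +kernel

theorem fixc_18_25000 : fixPtsF W_18 25000 25000 = true := by decide +kernel

theorem fixc_20_65000 : fixPtsF W_20 5000 65000 = true := by decide +kernel

theorem fixc_20_265000 : fixPtsF W_20 5000 265000 = true := by decide +kernel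

theorem fixc_24_300000 : fixPtsF W_24 50000 300000 = true := by decide +kernel

theorem fixc_29_275000 : fixPtsF W_29 25000 275000 = true := by decide +kernel

theorem fixc_10_266656 : fixPtsF W_10 8333 266656 = true := by decide +kernel

theorem fixc_11_191659 : fixPtsF W_11 8333 191659 = true := by decide +kernel

theorem fixc_12_316654 : fixPtsF W_12 16666 316654 = true := by decide +kernel

theorem fixc_23_249990 : fixPtsF W_23 16666 249990 = true := by decide +kernel

theorem fixc_16_113322 : fixPtsF W_16 3333 113322 = true := by decide +kernel

theorem fixc_16_246642 : fixPtsF W_16 3333 246642 = true := by decide +kernel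

theorem fixc_9_19044 : fixPtsF W_9 4761 19044 = true := by decide +kernel

theorem fixc_9_71415 : fixPtsF W_9 4761 71415 = true := by decide +kernel

theorem fixc_9_261855 : fixPtsF W_9 4761 261855 = true := by decide +kernel

theorem invc_13_350000 : invRowFI mT 368280 13 12 18280 350000 = true := by decide +kernel

end Cfsg.Agent.Helper9.ONM.MM
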