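import Cfsg.Agent.Helper9.ONM.MMDat

/-! generated permutation model, checks: MM -/

set_option autoImplicit false
set_option Elab.async false
set_option maxRecDepth 1000000

namespace Cfsg.Agent.Helper9.ONM.MM
open Cfsg.Agent.Helper5.TC Cfsg.Agent.Helper5.TCI Cfsg.Agent.Helper5.LP

theorem invc_4_200000 : invRowFI mT 368280 4 5 50000 200000 = true := by decide +kernel

theorem invc_10_100000 : invRowFI mT 368280 10 11 50000 100000 = true := by decide +kernel

theorem fixc_1_0 : fixPtsF W_1 25000 0 = true := by decide +kernel

theorem fixc_3_300000 : fixPtsF W_3 25000 300000 = true := by decide +kernel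

theorem fixc_6_100000 : fixPtsF W_6 10000 100000 = true := by decide +kernel

theorem fixc_7_140000 : fixPtsF W_7 10000 140000 = true := by decide +kernel

theorem fixc_8_180000 : fixPtsF W_8 10000 180000 = true := by decide +kernel

theorem fixc_14_200000 : fixPtsF W_14 25000 200000 = true := by decide +kernel

theorem fixc_17_125000 : fixPtsF W_17 6250 125000 = true := by decide +kernel

theorem fixc_18_50000 : fixPtsF W_18 25000 50000 = true := by decide +kernel

theorem fixc_20_70000 : fixPtsF W_20 5000 70000 = true := by decide +kernel

theorem fixc_20_270000 : fixPtsF W_20 5000 270000 = true := by decide +kernel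

theorem fixc_25_0 : fixPtsF W_25 50000 0 = true := by decide +kernel

theorem fixc_29_300000 : fixPtsF W_29 25000 300000 = true := by decide +kernel

theorem fixc_10_274989 : fixPtsF W_10 8333 274989 = true := by decide +kernel

theorem fixc_11_199992 : fixPtsF W_11 8333 199992 = true := by decide +kernel

theorem fixc_12_333320 : fixPtsF W_12 16666 333320 = true := by decide +kernel

theorem fixc_23_266656 : fixPtsF W_23 16666 266656 = true := by decide +kernel

theorem fixc_16_116655 : fixPtsF W_16 3333 116655 = true := by decide +kernel

theorem fixc_16_249975 : fixPtsF W_16 3333 249975 = true := by decide +kernel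

theorem fixc_9_23805 : fixPtsF W_9 4761 23805 = true := by decide +kernel

theorem fixc_9_76176 : fixPtsF W_9 4761 76176 = true := by decide +kernel

theorem fixc_9_266616 : fixPtsF W_9 4761 266616 = true := by decide +kernel

theorem fixc_24_350000 : fixPtsF W_24 18280 350000 = true := by decide +kernel

end Cfsg.Agent.Helper9.ONM.MM
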