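import Cfsg.Agent.Helper9.ONM.MMDat

/-! generated permutation model, checks: MM -/

set_option autoImplicit false
set_option Elab.async false
set_option maxRecDepth 1000000

namespace Cfsg.Agent.Helper9.ONM.MM
open Cfsg.Agent.Helper5.TC Cfsg.Agent.Helper5.TCI Cfsg.Agent.Helper5.LP

theorem invc_4_250000 : invRowFI mT 368280 4 5 50000 250000 = true := by decide +kernel

theorem invc_10_150000 : invRowFI mT 368280 10 11 50000 150000 = true := by decide +kernel

theorem fixc_1_25000 : fixPtsF W_1 25000 25000 = true := by decide +kernel

theorem fixc_3_325000 : fixPtsF W_3 25000 325000 = true := by decide +kernel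

theorem fixc_6_110000 : fixPtsF W_6 10000 110000 = true := by decide +kernel

theorem fixc_7_150000 : fixPtsF W_7 10000 150000 = true := by decide +kernel

theorem fixc_8_190000 : fixPtsF W_8 10000 190000 = true := by decide +kernel

theorem fixc_14_225000 : fixPtsF W_14 25000 225000 = true := by decide +kernel

theorem fixc_17_131250 : fixPtsF W_17 6250 131250 = true := by decide +kernel

theorem fixc_18_75000 : fixPtsF W_18 25000 75000 = true := by decide +kernel

theorem fixc_20_75000 : fixPtsF W_20 5000 75000 = true := by decide +kernel

theorem fixc_20_275000 : fixPtsF W_20 5000 275000 = true := by decide +kernel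

theorem fixc_25_50000 : fixPtsF W_25 50000 50000 = true := by decide +kernel

theorem fixc_29_325000 : fixPtsF W_29 25000 325000 = true := by decide +kernel

theorem fixc_10_283322 : fixPtsF W_10 8333 283322 = true := by decide +kernel

theorem fixc_11_208325 : fixPtsF W_11 8333 208325 = true := by decide +kernel

theorem fixc_12_349986 : fixPtsF W_12 16666 349986 = true := by decide +kernel

theorem fixc_23_283322 : fixPtsF W_23 16666 283322 = true := by decide +kernel

theorem fixc_16_119988 : fixPtsF W_16 3333 119988 = true := by decide +kernel

theorem fixc_16_253308 : fixPtsF W_16 3333 253308 = true := by decide +kernel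

theorem fixc_9_28566 : fixPtsF W_9 4761 28566 = true := by decide +kernel

theorem fixc_9_80937 : fixPtsF W_9 4761 80937 = true := by decide +kernel

theorem fixc_9_271377 : fixPtsF W_9 4761 271377 = true := by decide +kernel

theorem fixc_25_350000 : fixPtsF W_25 18280 350000 = true := by decide +kernel

end Cfsg.Agent.Helper9.ONM.MM
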