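import Cfsg.Agent.Helper9.ONM.MMDat

/-! generated permutation model, checks: MM -/

set_option autoImplicit false
set_option Elab.async false
set_option maxRecDepth 1000000

namespace Cfsg.Agent.Helper9.ONM.MM
open Cfsg.Agent.Helper5.TC Cfsg.Agent.Helper5.TCI Cfsg.Agent.Helper5.LP

theorem invc_4_300000 : invRowFI mT 368280 4 5 50000 300000 = true := by decide +kernel

theorem invc_10_200000 : invRowFI mT 368280 10 11 50000 200000 = true := by decide +kernel

theorem fixc_1_50000 : fixPtsF W_1 25000 50000 = true := by decide +kernel

theorem fixc_4_0 : fixPtsF W_4 25000 0 = true := by decide +kernel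

theorem fixc_6_120000 : fixPtsF W_6 10000 120000 = true := by decide +kernel

theorem fixc_7_160000 : fixPtsF W_7 10000 160000 = true := by decide +kernel

theorem fixc_8_200000 : fixPtsF W_8 10000 200000 = true := by decide +kernel

theorem fixc_14_250000 : fixPtsF W_14 25000 250000 = true := by decide +kernel

theorem fixc_17_137500 : fixPtsF W_17 6250 137500 = true := by decide +kernel

theorem fixc_18_100000 : fixPtsF W_18 25000 100000 = true := by decide +kernel

theorem fixc_20_80000 : fixPtsF W_20 5000 80000 = true := by decide +kernel

theorem fixc_20_280000 : fixPtsF W_20 5000 280000 = true := by decide +kernel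

theorem fixc_25_100000 : fixPtsF W_25 50000 100000 = true := by decide +kernel

theorem fixc_30_0 : fixPtsF W_30 33333 0 = true := by decide +kernel

theorem fixc_30_199998 : fixPtsF W_30 33333 199998 = true := by decide +kernel

theorem fixc_11_216658 : fixPtsF W_11 8333 216658 = true := by decide +kernel

theorem fixc_21_0 : fixPtsF W_21 16666 0 = true := by decide +kernel

theorem fixc_23_299988 : fixPtsF W_23 16666 299988 = true := by decide +kernel

theorem fixc_16_123321 : fixPtsF W_16 3333 123321 = true := by decide +kernel

theorem fixc_16_256641 : fixPtsF W_16 3333 256641 = true := by decide +kernel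

theorem fixc_9_33327 : fixPtsF W_9 4761 33327 = true := by decide +kernel

theorem fixc_9_85698 : fixPtsF W_9 4761 85698 = true := by decide +kernel

theorem fixc_9_276138 : fixPtsF W_9 4761 276138 = true := by decide +kernel

theorem fixc_26_350000 : fixPtsF W_26 18280 350000 = true := by decide +kernel

end Cfsg.Agent.Helper9.ONM.MM
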