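import Cfsg.Agent.Helper9.ONM.MMDat

/-! generated permutation model, checks: MM -/

set_option autoImplicit false
set_option Elab.async false
set_option maxRecDepth 1000000

namespace Cfsg.Agent.Helper9.ONM.MM
open Cfsg.Agent.Helper5.TC Cfsg.Agent.Helper5.TCI Cfsg.Agent.Helper5.LP

theorem invc_5_0 : invRowFI mT 368280 5 4 50000 0 = true := by decide +kernel

theorem invc_10_250000 : invRowFI mT 368280 10 11 50000 250000 = true := by decide +kernel

theorem fixc_1_75000 : fixPtsF W_1 25000 75000 = true := by decide +kernel

theorem fixc_4_25000 : fixPtsF W_4 25000 25000 = true := by decide +kernel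

theorem fixc_6_130000 : fixPtsF W_6 10000 130000 = true := by decide +kernel

theorem fixc_7_170000 : fixPtsF W_7 10000 170000 = true := by decide +kernel

theorem fixc_8_210000 : fixPtsF W_8 10000 210000 = true := by decide +kernel

theorem fixc_14_275000 : fixPtsF W_14 25000 275000 = true := by decide +kernel

theorem fixc_17_143750 : fixPtsF W_17 6250 143750 = true := by decide +kernel

theorem fixc_18_125000 : fixPtsF W_18 25000 125000 = true := by decide +kernel

theorem fixc_20_85000 : fixPtsF W_20 5000 85000 = true := by decide +kernel

theorem fixc_20_285000 : fixPtsF W_20 5000 285000 = true := by decide +kernel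

theorem fixc_25_150000 : fixPtsF W_25 50000 150000 = true := by decide +kernel

theorem fixc_30_33333 : fixPtsF W_30 33333 33333 = true := by decide +kernel

theorem fixc_30_233331 : fixPtsF W_30 33333 233331 = true := by decide +kernel

theorem fixc_11_224991 : fixPtsF W_11 8333 224991 = true := by decide +kernel

theorem fixc_21_16666 : fixPtsF W_21 16666 16666 = true := by decide +kernel

theorem fixc_23_316654 : fixPtsF W_23 16666 316654 = true := by decide +kernel

theorem fixc_16_126654 : fixPtsF W_16 3333 126654 = true := by decide +kernel

theorem fixc_16_259974 : fixPtsF W_16 3333 259974 = true := by decide +kernel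

theorem fixc_9_38088 : fixPtsF W_9 4761 38088 = true := by decide +kernel

theorem fixc_9_90459 : fixPtsF W_9 4761 90459 = true := by decide +kernel

theorem fixc_9_280899 : fixPtsF W_9 4761 280899 = true := by decide +kernel

theorem fixc_27_350000 : fixPtsF W_27 18280 350000 = true := by decide +kernel

end Cfsg.Agent.Helper9.ONM.MM
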