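import Cfsg.Agent.Helper9.ONM.MMDat

/-! generated permutation model, checks: MM -/

set_option autoImplicit false
set_option Elab.async false
set_option maxRecDepth 1000000

namespace Cfsg.Agent.Helper9.ONM.MM
open Cfsg.Agent.Helper5.TC Cfsg.Agent.Helper5.TCI Cfsg.Agent.Helper5.LP

theorem invc_5_50000 : invRowFI mT 368280 5 4 50000 50000 = true := by decide +kernel

theorem invc_10_300000 : invRowFI mT 368280 10 11 50000 300000 = true := by decide +kernel

theorem fixc_1_100000 : fixPtsF W_1 25000 100000 = true := by decide +kernel

theorem fixc_4_50000 : fixPtsF W_4 25000 50000 = true := by decide +kernel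

theorem fixc_6_140000 : fixPtsF W_6 10000 140000 = true := by decide +kernel

theorem fixc_7_180000 : fixPtsF W_7 10000 180000 = true := by decide +kernel

theorem fixc_8_220000 : fixPtsF W_8 10000 220000 = true := by decide +kernel

theorem fixc_14_300000 : fixPtsF W_14 25000 300000 = true := by decide +kernel

theorem fixc_17_150000 : fixPtsF W_17 6250 150000 = true := by decide +kernel

theorem fixc_18_150000 : fixPtsF W_18 25000 150000 = true := by decide +kernel

theorem fixc_20_90000 : fixPtsF W_20 5000 90000 = true := by decide +kernel

theorem fixc_20_290000 : fixPtsF W_20 5000 290000 = true := by decide +kernel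

theorem fixc_25_200000 : fixPtsF W_25 50000 200000 = true := by decide +kernel

theorem fixc_30_66666 : fixPtsF W_30 33333 66666 = true := by decide +kernel

theorem fixc_30_266664 : fixPtsF W_30 33333 266664 = true := by decide +kernel

theorem fixc_11_233324 : fixPtsF W_11 8333 233324 = true := by decide +kernel

theorem fixc_21_33332 : fixPtsF W_21 16666 33332 = true := by decide +kernel

theorem fixc_23_333320 : fixPtsF W_23 16666 333320 = true := by decide +kernel

theorem fixc_16_129987 : fixPtsF W_16 3333 129987 = true := by decide +kernel

theorem fixc_16_263307 : fixPtsF W_16 3333 263307 = true := by decide +kernel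

theorem fixc_9_42849 : fixPtsF W_9 4761 42849 = true := by decide +kernel

theorem fixc_9_95220 : fixPtsF W_9 4761 95220 = true := by decide +kernel

theorem fixc_9_285660 : fixPtsF W_9 4761 285660 = true := by decide +kernel

theorem fixc_28_350000 : fixPtsF W_28 18280 350000 = true := by decide +kernel

end Cfsg.Agent.Helper9.ONM.MM
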