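import Cfsg.Agent.Helper9.ONM.MMDat

/-! generated permutation model, checks: MM -/

set_option autoImplicit false
set_option Elab.async false
set_option maxRecDepth 1000000

namespace Cfsg.Agent.Helper9.ONM.MM
open Cfsg.Agent.Helper5.TC Cfsg.Agent.Helper5.TCI Cfsg.Agent.Helper5.LP

theorem invc_5_100000 : invRowFI mT 368280 5 4 50000 100000 = true := by decide +kernel

theorem invc_11_0 : invRowFI mT 368280 11 10 50000 0 = true := by decide +kernel

theorem fixc_1_125000 : fixPtsF W_1 25000 125000 = true := by decide +kernel

theorem fixc_4_75000 : fixPtsF W_4 25000 75000 = true := by decide +kernel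

theorem fixc_6_150000 : fixPtsF W_6 10000 150000 = true := by decide +kernel

theorem fixc_7_190000 : fixPtsF W_7 10000 190000 = true := by decide +kernel

theorem fixc_8_230000 : fixPtsF W_8 10000 230000 = true := by decide +kernel

theorem fixc_14_325000 : fixPtsF W_14 25000 325000 = true := by decide +kernel

theorem fixc_17_156250 : fixPtsF W_17 6250 156250 = true := by decide +kernel

theorem fixc_18_175000 : fixPtsF W_18 25000 175000 = true := by decide +kernel

theorem fixc_20_95000 : fixPtsF W_20 5000 95000 = true := by decide +kernel

theorem fixc_20_295000 : fixPtsF W_20 5000 295000 = true := by decide +kernel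

theorem fixc_25_250000 : fixPtsF W_25 50000 250000 = true := by decide +kernel

theorem fixc_30_99999 : fixPtsF W_30 33333 99999 = true := by decide +kernel

theorem fixc_30_299997 : fixPtsF W_30 33333 299997 = true := by decide +kernel

theorem fixc_11_241657 : fixPtsF W_11 8333 241657 = true := by decide +kernel

theorem fixc_21_49998 : fixPtsF W_21 16666 49998 = true := by decide +kernel

theorem fixc_23_349986 : fixPtsF W_23 16666 349986 = true := by decide +kernel

theorem fixc_16_133320 : fixPtsF W_16 3333 133320 = true := by decide +kernel

theorem fixc_16_266640 : fixPtsF W_16 3333 266640 = true := by decide +kernel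

theorem fixc_9_47610 : fixPtsF W_9 4761 47610 = true := by decide +kernel

theorem fixc_9_99981 : fixPtsF W_9 4761 99981 = true := by decide +kernel

theorem fixc_9_290421 : fixPtsF W_9 4761 290421 = true := by decide +kernel

theorem fixc_9_366597 : fixPtsF W_9 1683 366597 = true := by decide +kernel

end Cfsg.Agent.Helper9.ONM.MM
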