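import Cfsg.Agent.Helper9.ONM.MMDat

/-! generated permutation model, checks: MM -/

set_option autoImplicit false
set_option Elab.async false
set_option maxRecDepth 1000000

namespace Cfsg.Agent.Helper9.ONM.MM
open Cfsg.Agent.Helper5.TC Cfsg.Agent.Helper5.TCI Cfsg.Agent.Helper5.LP

theorem invc_5_150000 : invRowFI mT 368280 5 4 50000 150000 = true := by decide +kernel

theorem invc_11_50000 : invRowFI mT 368280 11 10 50000 50000 = true := by decide +kernel

theorem fixc_1_150000 : fixPtsF W_1 25000 150000 = true := by decide +kernel

theorem fixc_4_100000 : fixPtsF W_4 25000 100000 = true := by decide +kernel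

theorem fixc_6_160000 : fixPtsF W_6 10000 160000 = true := by decide +kernel

theorem fixc_7_200000 : fixPtsF W_7 10000 200000 = true := by decide +kernel

theorem fixc_8_240000 : fixPtsF W_8 10000 240000 = true := by decide +kernel

theorem fixc_15_0 : fixPtsF W_15 25000 0 = true := by decide +kernel

theorem fixc_17_162500 : fixPtsF W_17 6250 162500 = true := by decide +kernel

theorem fixc_18_200000 : fixPtsF W_18 25000 200000 = true := by decide +kernel

theorem fixc_20_100000 : fixPtsF W_20 5000 100000 = true := by decide +kernel

theorem fixc_20_300000 : fixPtsF W_20 5000 300000 = true := by decide +kernel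

theorem fixc_25_300000 : fixPtsF W_25 50000 300000 = true := by decide +kernel

theorem fixc_30_133332 : fixPtsF W_30 33333 133332 = true := by decide +kernel

theorem fixc_30_333330 : fixPtsF W_30 33333 333330 = true := by decide +kernel

theorem fixc_11_249990 : fixPtsF W_11 8333 249990 = true := by decide +kernel

theorem fixc_21_66664 : fixPtsF W_21 16666 66664 = true := by decide +kernel

theorem fixc_16_0 : fixPtsF W_16 3333 0 = true := by decide +kernel

theorem fixc_16_3333 : fixPtsF W_16 3333 3333 = true := by decide +kernel

theorem fixc_16_136653 : fixPtsF W_16 3333 136653 = true := by decide +kernel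

theorem fixc_16_269973 : fixPtsF W_16 3333 269973 = true := by decide +kernel

theorem fixc_9_104742 : fixPtsF W_9 4761 104742 = true := by decide +kernel

theorem fixc_9_295182 : fixPtsF W_9 4761 295182 = true := by decide +kernel

theorem fixc_10_366652 : fixPtsF W_10 1628 366652 = true := by decide +kernel

end Cfsg.Agent.Helper9.ONM.MM
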