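import Cfsg.Agent.Helper9.ONM.MMDat

/-! generated permutation model, checks: MM -/

set_option autoImplicit false
set_option Elab.async false
set_option maxRecDepth 1000000

namespace Cfsg.Agent.Helper9.ONM.MM
open Cfsg.Agent.Helper5.TC Cfsg.Agent.Helper5.TCI Cfsg.Agent.Helper5.LP

theorem invc_5_200000 : invRowFI mT 368280 5 4 50000 200000 = true := by decide +kernel

theorem invc_11_100000 : invRowFI mT 368280 11 10 50000 100000 = true := by decide +kernel

theorem fixc_1_175000 : fixPtsF W_1 25000 175000 = true := by decide +kernel

theorem fixc_4_125000 : fixPtsF W_4 25000 125000 = true := by decide +kernel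

theorem fixc_6_170000 : fixPtsF W_6 10000 170000 = true := by decide +kernel

theorem fixc_7_210000 : fixPtsF W_7 10000 210000 = true := by decide +kernel

theorem fixc_8_250000 : fixPtsF W_8 10000 250000 = true := by decide +kernel

theorem fixc_15_25000 : fixPtsF W_15 25000 25000 = true := by decide +kernel

theorem fixc_17_168750 : fixPtsF W_17 6250 168750 = true := by decide +kernel

theorem fixc_18_225000 : fixPtsF W_18 25000 225000 = true := by decide +kernel

theorem fixc_20_105000 : fixPtsF W_20 5000 105000 = true := by decide +kernel

theorem fixc_20_305000 : fixPtsF W_20 5000 305000 = true := by decide +kernel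

theorem fixc_26_0 : fixPtsF W_26 50000 0 = true := by decide +kernel

theorem fixc_30_166665 : fixPtsF W_30 33333 166665 = true := by decide +kernel

theorem fixc_10_0 : fixPtsF W_10 8333 0 = true := by decide +kernel

theorem fixc_10_291655 : fixPtsF W_10 8333 291655 = true := by decide +kernel

theorem fixc_11_258323 : fixPtsF W_11 8333 258323 = true := by decide +kernel

theorem fixc_21_83330 : fixPtsF W_21 16666 83330 = true := by decide +kernel

theorem fixc_16_6666 : fixPtsF W_16 3333 6666 = true := by decide +kernel

theorem fixc_16_139986 : fixPtsF W_16 3333 139986 = true := by decide +kernel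

theorem fixc_16_273306 : fixPtsF W_16 3333 273306 = true := by decide +kernel

theorem fixc_9_109503 : fixPtsF W_9 4761 109503 = true := by decide +kernel

theorem fixc_9_299943 : fixPtsF W_9 4761 299943 = true := by decide +kernel

theorem fixc_11_366652 : fixPtsF W_11 1628 366652 = true := by decide +kernel

end Cfsg.Agent.Helper9.ONM.MM
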