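import Cfsg.Agent.Helper9.ONM.MMDat

/-! generated permutation model, checks: MM -/

set_option autoImplicit false
set_option Elab.async false
set_option maxRecDepth 1000000

namespace Cfsg.Agent.Helper9.ONM.MM
open Cfsg.Agent.Helper5.TC Cfsg.Agent.Helper5.TCI Cfsg.Agent.Helper5.LP

theorem invc_0_200000 : invRowFI mT 368280 0 1 50000 200000 = true := by decide +kernel

theorem invc_6_100000 : invRowFI mT 368280 6 7 50000 100000 = true := by decide +kernel

theorem invc_12_0 : invRowFI mT 368280 12 13 50000 0 = true := by decide +kernel

theorem fixc_1_300000 : fixPtsF W_1 25000 300000 = true := by decide +kernel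

theorem fixc_4_250000 : fixPtsF W_4 25000 250000 = true := by decide +kernel

theorem fixc_6_220000 : fixPtsF W_6 10000 220000 = true := by decide +kernel

theorem fixc_7_260000 : fixPtsF W_7 10000 260000 = true := by decide +kernel

theorem fixc_8_300000 : fixPtsF W_8 10000 300000 = true := by decide +kernel

theorem fixc_15_150000 : fixPtsF W_15 25000 150000 = true := by decide +kernel

theorem fixc_17_200000 : fixPtsF W_17 6250 200000 = true := by decide +kernel

theorem fixc_19_0 : fixPtsF W_19 25000 0 = true := by decide +kernel

theorem fixc_20_130000 : fixPtsF W_20 5000 130000 = true := by decide +kernel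

theorem fixc_20_330000 : fixPtsF W_20 5000 330000 = true := by decide +kernel

theorem fixc_26_250000 : fixPtsF W_26 50000 250000 = true := by decide +kernel

theorem fixc_10_41665 : fixPtsF W_10 8333 41665 = true := by decide +kernel

theorem fixc_10_333320 : fixPtsF W_10 8333 333320 = true := by decide +kernel

theorem fixc_11_299988 : fixPtsF W_11 8333 299988 = true := by decide +kernel

theorem fixc_21_166660 : fixPtsF W_21 16666 166660 = true := by decide +kernel

theorem fixc_16_23331 : fixPtsF W_16 3333 23331 = true := by decide +kernel

theorem fixc_16_156651 : fixPtsF W_16 3333 156651 = true := by decide +kernel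

theorem fixc_16_289971 : fixPtsF W_16 3333 289971 = true := by decide +kernel

theorem fixc_9_133308 : fixPtsF W_9 4761 133308 = true := by decide +kernel

theorem fixc_9_323748 : fixPtsF W_9 4761 323748 = true := by decide +kernel

end Cfsg.Agent.Helper9.ONM.MM
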