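import Cfsg.Agent.Helper9.ONM.MMDat

/-! generated permutation model, checks: MM -/

set_option autoImplicit false
set_option Elab.async false
set_option maxRecDepth 1000000

namespace Cfsg.Agent.Helper9.ONM.MM
open Cfsg.Agent.Helper5.TC Cfsg.Agent.Helper5.TCI Cfsg.Agent.Helper5.LP

theorem invc_0_250000 : invRowFI mT 368280 0 1 50000 250000 = true := by decide +kernel

theorem invc_6_150000 : invRowFI mT 368280 6 7 50000 150000 = true := by decide +kernel

theorem invc_12_50000 : invRowFI mT 368280 12 13 50000 50000 = true := by decide +kernel

theorem fixc_1_325000 : fixPtsF W_1 25000 325000 = true := by decide +kernel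

theorem fixc_4_275000 : fixPtsF W_4 25000 275000 = true := by decide +kernel

theorem fixc_6_230000 : fixPtsF W_6 10000 230000 = true := by decide +kernel

theorem fixc_7_270000 : fixPtsF W_7 10000 270000 = true := by decide +kernel

theorem fixc_8_310000 : fixPtsF W_8 10000 310000 = true := by decide +kernel

theorem fixc_15_175000 : fixPtsF W_15 25000 175000 = true := by decide +kernel

theorem fixc_17_206250 : fixPtsF W_17 6250 206250 = true := by decide +kernel

theorem fixc_19_25000 : fixPtsF W_19 25000 25000 = true := by decide +kernel

theorem fixc_20_135000 : fixPtsF W_20 5000 135000 = true := by decide +kernel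

theorem fixc_20_335000 : fixPtsF W_20 5000 335000 = true := by decide +kernel

theorem fixc_26_300000 : fixPtsF W_26 50000 300000 = true := by decide +kernel

theorem fixc_10_49998 : fixPtsF W_10 8333 49998 = true := by decide +kernel

theorem fixc_10_341653 : fixPtsF W_10 8333 341653 = true := by decide +kernel

theorem fixc_11_308321 : fixPtsF W_11 8333 308321 = true := by decide +kernel

theorem fixc_21_183326 : fixPtsF W_21 16666 183326 = true := by decide +kernel

theorem fixc_16_26664 : fixPtsF W_16 3333 26664 = true := by decide +kernel

theorem fixc_16_159984 : fixPtsF W_16 3333 159984 = true := by decide +kernel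

theorem fixc_16_293304 : fixPtsF W_16 3333 293304 = true := by decide +kernel

theorem fixc_9_138069 : fixPtsF W_9 4761 138069 = true := by decide +kernel

theorem fixc_9_328509 : fixPtsF W_9 4761 328509 = true := by decide +kernel

end Cfsg.Agent.Helper9.ONM.MM
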