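import Cfsg.Agent.Helper9.ONM.MMDat

/-! generated permutation model, checks: MM -/

set_option autoImplicit false
set_option Elab.async false
set_option maxRecDepth 1000000

namespace Cfsg.Agent.Helper9.ONM.MM
open Cfsg.Agent.Helper5.TC Cfsg.Agent.Helper5.TCI Cfsg.Agent.Helper5.LP

theorem invc_0_300000 : invRowFI mT 368280 0 1 50000 300000 = true := by decide +kernel

theorem invc_6_200000 : invRowFI mT 368280 6 7 50000 200000 = true := by decide +kernel

theorem invc_12_100000 : invRowFI mT 368280 12 13 50000 100000 = true := by decide +kernel

theorem fixc_2_0 : fixPtsF W_2 25000 0 = true := by decide +kernel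

theorem fixc_4_300000 : fixPtsF W_4 25000 300000 = true := by decide +kernel

theorem fixc_6_240000 : fixPtsF W_6 10000 240000 = true := by decide +kernel

theorem fixc_7_280000 : fixPtsF W_7 10000 280000 = true := by decide +kernel

theorem fixc_8_320000 : fixPtsF W_8 10000 320000 = true := by decide +kernel

theorem fixc_15_200000 : fixPtsF W_15 25000 200000 = true := by decide +kernel

theorem fixc_17_212500 : fixPtsF W_17 6250 212500 = true := by decide +kernel

theorem fixc_19_50000 : fixPtsF W_19 25000 50000 = true := by decide +kernel

theorem fixc_20_140000 : fixPtsF W_20 5000 140000 = true := by decide +kernel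

theorem fixc_20_340000 : fixPtsF W_20 5000 340000 = true := by decide +kernel

theorem fixc_27_0 : fixPtsF W_27 50000 0 = true := by decide +kernel

theorem fixc_10_58331 : fixPtsF W_10 8333 58331 = true := by decide +kernel

theorem fixc_10_349986 : fixPtsF W_10 8333 349986 = true := by decide +kernel

theorem fixc_11_316654 : fixPtsF W_11 8333 316654 = true := by decide +kernel

theorem fixc_21_199992 : fixPtsF W_21 16666 199992 = true := by decide +kernel

theorem fixc_16_29997 : fixPtsF W_16 3333 29997 = true := by decide +kernel

theorem fixc_16_163317 : fixPtsF W_16 3333 163317 = true := by decide +kernel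

theorem fixc_16_296637 : fixPtsF W_16 3333 296637 = true := by decide +kernel

theorem fixc_9_142830 : fixPtsF W_9 4761 142830 = true := by decide +kernel

theorem fixc_9_333270 : fixPtsF W_9 4761 333270 = true := by decide +kernel

end Cfsg.Agent.Helper9.ONM.MM
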