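import Cfsg.Agent.Helper9.ONM.MMDat

/-! generated permutation model, checks: MM -/

set_option autoImplicit false
set_option Elab.async false
set_option maxRecDepth 1000000

namespace Cfsg.Agent.Helper9.ONM.MM
open Cfsg.Agent.Helper5.TC Cfsg.Agent.Helper5.TCI Cfsg.Agent.Helper5.LP

theorem invc_1_0 : invRowFI mT 368280 1 0 50000 0 = true := by decide +kernel

theorem invc_6_250000 : invRowFI mT 368280 6 7 50000 250000 = true := by decide +kernel

theorem invc_12_150000 : invRowFI mT 368280 12 13 50000 150000 = true := by decide +kernel

theorem fixc_2_25000 : fixPtsF W_2 25000 25000 = true := by decide +kernel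

theorem fixc_4_325000 : fixPtsF W_4 25000 325000 = true := by decide +kernel

theorem fixc_6_250000 : fixPtsF W_6 10000 250000 = true := by decide +kernel

theorem fixc_7_290000 : fixPtsF W_7 10000 290000 = true := by decide +kernel

theorem fixc_8_330000 : fixPtsF W_8 10000 330000 = true := by decide +kernel

theorem fixc_15_225000 : fixPtsF W_15 25000 225000 = true := by decide +kernel

theorem fixc_17_218750 : fixPtsF W_17 6250 218750 = true := by decide +kernel

theorem fixc_19_75000 : fixPtsF W_19 25000 75000 = true := by decide +kernel

theorem fixc_20_145000 : fixPtsF W_20 5000 145000 = true := by decide +kernel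

theorem fixc_20_345000 : fixPtsF W_20 5000 345000 = true := by decide +kernel

theorem fixc_27_50000 : fixPtsF W_27 50000 50000 = true := by decide +kernel

theorem fixc_10_66664 : fixPtsF W_10 8333 66664 = true := by decide +kernel

theorem fixc_10_358319 : fixPtsF W_10 8333 358319 = true := by decide +kernel

theorem fixc_11_324987 : fixPtsF W_11 8333 324987 = true := by decide +kernel

theorem fixc_21_216658 : fixPtsF W_21 16666 216658 = true := by decide +kernel

theorem fixc_16_33330 : fixPtsF W_16 3333 33330 = true := by decide +kernel

theorem fixc_16_166650 : fixPtsF W_16 3333 166650 = true := by decide +kernel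

theorem fixc_16_299970 : fixPtsF W_16 3333 299970 = true := by decide +kernel

theorem fixc_9_147591 : fixPtsF W_9 4761 147591 = true := by decide +kernel

theorem fixc_9_338031 : fixPtsF W_9 4761 338031 = true := by decide +kernel

end Cfsg.Agent.Helper9.ONM.MM
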