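import Cfsg.Agent.Helper9.ONM.MMDat

/-! generated permutation model, checks: MM -/

set_option autoImplicit false
set_option Elab.async false
set_option maxRecDepth 1000000

namespace Cfsg.Agent.Helper9.ONM.MM
open Cfsg.Agent.Helper5.TC Cfsg.Agent.Helper5.TCI Cfsg.Agent.Helper5.LP

theorem invc_1_50000 : invRowFI mT 368280 1 0 50000 50000 = true := by decide +kernel

theorem invc_6_300000 : invRowFI mT 368280 6 7 50000 300000 = true := by decide +kernel

theorem invc_12_200000 : invRowFI mT 368280 12 13 50000 200000 = true := by decide +kernel

theorem fixc_2_50000 : fixPtsF W_2 25000 50000 = true := by decide +kernel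

theorem fixc_5_0 : fixPtsF W_5 25000 0 = true := by decide +kernel

theorem fixc_6_260000 : fixPtsF W_6 10000 260000 = true := by decide +kernel

theorem fixc_7_300000 : fixPtsF W_7 10000 300000 = true := by decide +kernel

theorem fixc_8_340000 : fixPtsF W_8 10000 340000 = true := by decide +kernel

theorem fixc_15_250000 : fixPtsF W_15 25000 250000 = true := by decide +kernel

theorem fixc_17_225000 : fixPtsF W_17 6250 225000 = true := by decide +kernel

theorem fixc_19_100000 : fixPtsF W_19 25000 100000 = true := by decide +kernel

theorem fixc_20_150000 : fixPtsF W_20 5000 150000 = true := by decide +kernel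

theorem fixc_20_350000 : fixPtsF W_20 5000 350000 = true := by decide +kernel

theorem fixc_27_100000 : fixPtsF W_27 50000 100000 = true := by decide +kernel

theorem fixc_10_74997 : fixPtsF W_10 8333 74997 = true := by decide +kernel

theorem fixc_11_0 : fixPtsF W_11 8333 0 = true := by decide +kernel

theorem fixc_11_333320 : fixPtsF W_11 8333 333320 = true := by decide +kernel

theorem fixc_21_233324 : fixPtsF W_21 16666 233324 = true := by decide +kernel

theorem fixc_16_36663 : fixPtsF W_16 3333 36663 = true := by decide +kernel

theorem fixc_16_169983 : fixPtsF W_16 3333 169983 = true := by decide +kernel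

theorem fixc_16_303303 : fixPtsF W_16 3333 303303 = true := by decide +kernel

theorem fixc_9_152352 : fixPtsF W_9 4761 152352 = true := by decide +kernel

theorem fixc_9_342792 : fixPtsF W_9 4761 342792 = true := by decide +kernel

end Cfsg.Agent.Helper9.ONM.MM
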