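import Cfsg.Agent.Helper9.ONM.MMDat

/-! generated permutation model, checks: MM -/

set_option autoImplicit false
set_option Elab.async false
set_option maxRecDepth 1000000

namespace Cfsg.Agent.Helper9.ONM.MM
open Cfsg.Agent.Helper5.TC Cfsg.Agent.Helper5.TCI Cfsg.Agent.Helper5.LP

theorem invc_1_100000 : invRowFI mT 368280 1 0 50000 100000 = true := by decide +kernel

theorem invc_7_0 : invRowFI mT 368280 7 6 50000 0 = true := by decide +kernel

theorem invc_12_250000 : invRowFI mT 368280 12 13 50000 250000 = true := by decide +kernel

theorem fixc_2_75000 : fixPtsF W_2 25000 75000 = true := by decide +kernel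

theorem fixc_5_25000 : fixPtsF W_5 25000 25000 = true := by decide +kernel

theorem fixc_6_270000 : fixPtsF W_6 10000 270000 = true := by decide +kernel

theorem fixc_7_310000 : fixPtsF W_7 10000 310000 = true := by decide +kernel

theorem fixc_8_350000 : fixPtsF W_8 10000 350000 = true := by decide +kernel

theorem fixc_15_275000 : fixPtsF W_15 25000 275000 = true := by decide +kernel

theorem fixc_17_231250 : fixPtsF W_17 6250 231250 = true := by decide +kernel

theorem fixc_19_125000 : fixPtsF W_19 25000 125000 = true := by decide +kernel

theorem fixc_20_155000 : fixPtsF W_20 5000 155000 = true := by decide +kernel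

theorem fixc_20_355000 : fixPtsF W_20 5000 355000 = true := by decide +kernel

theorem fixc_27_150000 : fixPtsF W_27 50000 150000 = true := by decide +kernel

theorem fixc_10_83330 : fixPtsF W_10 8333 83330 = true := by decide +kernel

theorem fixc_11_8333 : fixPtsF W_11 8333 8333 = true := by decide +kernel

theorem fixc_11_341653 : fixPtsF W_11 8333 341653 = true := by decide +kernel

theorem fixc_21_249990 : fixPtsF W_21 16666 249990 = true := by decide +kernel

theorem fixc_16_39996 : fixPtsF W_16 3333 39996 = true := by decide +kernel

theorem fixc_16_173316 : fixPtsF W_16 3333 173316 = true := by decide +kernel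

theorem fixc_16_306636 : fixPtsF W_16 3333 306636 = true := by decide +kernel

theorem fixc_9_157113 : fixPtsF W_9 4761 157113 = true := by decide +kernel

theorem fixc_9_347553 : fixPtsF W_9 4761 347553 = true := by decide +kernel

end Cfsg.Agent.Helper9.ONM.MM
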