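import Cfsg.Agent.Helper9.ONM.MMCk0
import Cfsg.Agent.Helper9.ONM.MMCk1
import Cfsg.Agent.Helper9.ONM.MMCk2
import Cfsg.Agent.Helper9.ONM.MMCk3
import Cfsg.Agent.Helper9.ONM.MMCk4
import Cfsg.Agent.Helper9.ONM.MMCk5
import Cfsg.Agent.Helper9.ONM.MMCk6
import Cfsg.Agent.Helper9.ONM.MMCk7
import Cfsg.Agent.Helper9.ONM.MMCk8
import Cfsg.Agent.Helper9.ONM.MMCk9
import Cfsg.Agent.Helper9.ONM.MMCk10
import Cfsg.Agent.Helper9.ONM.MMCk11
import Cfsg.Agent.Helper9.ONM.MMCk12
import Cfsg.Agent.Helper9.ONM.MMCk13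
import Cfsg.Agent.Helper9.ONM.MMCk14
import Cfsg.Agent.Helper9.ONM.MMCk15
import Cfsg.Agent.Helper9.ONM.MMCk16
import Cfsg.Agent.Helper9.ONM.MMCk17
import Cfsg.Agent.Helper9.ONM.MMCk18
import Cfsg.Agent.Helper9.ONM.MMCk19
import Cfsg.Agent.Helper9.ONM.MMCk20
import Cfsg.Agent.Helper9.ONM.MMCk21
import Cfsg.Agent.Helper9.ONM.MMCk22
import Cfsg.Agent.Helper9.ONM.MMCk23
import Cfsg.Agent.Helper9.ONM.MMCk24
import Cfsg.Agent.Helper9.ONM.MMCk25
import Cfsg.Agent.Helper9.ONM.MMCk26
import Cfsg.Agent.Helper9.ONM.MMCk27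
import Cfsg.Agent.Helper9.ONM.MMCk28
import Cfsg.Agent.Helper9.ONM.MMCk29
import Cfsg.Agent.Helper9.ONM.MMCk30
import Cfsg.Agent.Helper9.ONM.MMCk31
import Cfsg.Agent.Helper9.ONM.MMCk32
import Cfsg.Agent.Helper9.ONM.MMCk33
import Cfsg.Agent.Helper9.ONM.MMCk34
import Cfsg.Agent.Helper9.ONM.MMCk35
import Cfsg.Agent.Helper9.ONM.MMCk36
import Cfsg.Agent.Helper9.ONM.MMCk37
import Cfsg.Agent.Helper9.ONM.MMCk38
import Cfsg.Agent.Helper9.ONM.MMCk39

/-! generated permutation model, summary: MM -/

set_option autoImplicit false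
set_option maxRecDepth 1000000

namespace Cfsg.Agent.Helper9.ONM.MM
open Cfsg.Agent.Helper5.TC Cfsg.Agent.Helper5.TCI Cfsg.Agent.Helper5.LP Cfsg.Agent.Helper5.StemP
  Cfsg.Agent.Helper4.ShM

theorem inv_0 : ∀ v, v < 368280 → mT 0 v < 368280 ∧ mT 1 (mT 0 v) = v :=
  (inv_step (inv_step (inv_step (inv_step (inv_step (inv_step (inv_step (inv_step (fun v hv => absurd hv (by omega)) 50000 invc_0_0) 50000 invc_0_50000) 50000 invc_0_100000) 50000 invc_0_150000) 50000 invc_0_200000) 50000 invc_0_250000) 50000 invc_0_300000) 18280 invc_0_350000)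

theorem inv_1 : ∀ v, v < 368280 → mT 1 v < 368280 ∧ mT 0 (mT 1 v) = v :=
  (inv_step (inv_step (inv_step (inv_step (inv_step (inv_step (inv_step (inv_step (fun v hv => absurd hv (by omega)) 50000 invc_1_0) 50000 invc_1_50000) 50000 invc_1_100000) 50000 invc_1_150000) 50000 invc_1_200000) 50000 invc_1_250000) 50000 invc_1_300000) 18280 invc_1_350000)

theorem inv_2 : ∀ v, v < 368280 → mT 2 v < 368280 ∧ mT 3 (mT 2 v) = v :=
  (inv_step (inv_step (inv_step (inv_step (inv_step (inv_step (inv_step (inv_step (fun v hv => absurd hv (by omega)) 50000 invc_2_0) 50000 invc_2_50000) 50000 invc_2_100000) 50000 invc_2_150000) 50000 invc_2_200000) 50000 invc_2_250000) 50000 invc_2_300000) 18280 invc_2_350000)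

theorem inv_3 : ∀ v, v < 368280 → mT 3 v < 368280 ∧ mT 2 (mT 3 v) = v :=
  (inv_step (inv_step (inv_step (inv_step (inv_step (inv_step (inv_step (inv_step (fun v hv => absurd hv (by omega)) 50000 invc_3_0) 50000 invc_3_50000) 50000 invc_3_100000) 50000 invc_3_150000) 50000 invc_3_200000) 50000 invc_3_250000) 50000 invc_3_300000) 18280 invc_3_350000)

theorem inv_4 : ∀ v, v < 368280 → mT 4 v < 368280 ∧ mT 5 (mT 4 v) = v :=
  (inv_step (inv_step (inv_step (inv_step (inv_step (inv_step (inv_step (inv_step (fun v hv => absurd hv (by omega)) 50000 invc_4_0) 50000 invc_4_50000) 50000 invc_4_100000) 50000 invc_4_150000) 50000 invc_4_200000) 50000 invc_4_250000) 50000 invc_4_300000) 18280 invc_4_350000)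

theorem inv_5 : ∀ v, v < 368280 → mT 5 v < 368280 ∧ mT 4 (mT 5 v) = v :=
  (inv_step (inv_step (inv_step (inv_step (inv_step (inv_step (inv_step (inv_step (fun v hv => absurd hv (by omega)) 50000 invc_5_0) 50000 invc_5_50000) 50000 invc_5_100000) 50000 invc_5_150000) 50000 invc_5_200000) 50000 invc_5_250000) 50000 invc_5_300000) 18280 invc_5_350000)

theorem inv_6 : ∀ v, v < 368280 → mT 6 v < 368280 ∧ mT 7 (mT 6 v) = v :=
  (inv_step (inv_step (inv_step (inv_step (inv_step (inv_step (inv_step (inv_step (fun v hv => absurd hv (by omega)) 50000 invc_6_0) 50000 invc_6_50000) 50000 invc_6_100000) 50000 invc_6_150000) 50000 invc_6_200000) 50000 invc_6_250000) 50000 invc_6_300000) 18280 invc_6_350000)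

theorem inv_7 : ∀ v, v < 368280 → mT 7 v < 368280 ∧ mT 6 (mT 7 v) = v :=
  (inv_step (inv_step (inv_step (inv_step (inv_step (inv_step (inv_step (inv_step (fun v hv => absurd hv (by omega)) 50000 invc_7_0) 50000 invc_7_50000) 50000 invc_7_100000) 50000 invc_7_150000) 50000 invc_7_200000) 50000 invc_7_250000) 50000 invc_7_300000) 18280 invc_7_350000)

theorem inv_8 : ∀ v, v < 368280 → mT 8 v < 368280 ∧ mT 9 (mT 8 v) = v :=
  (inv_step (inv_step (inv_step (inv_step (inv_step (inv_step (inv_step (inv_step (fun v hv => absurd hv (by omega)) 50000 invc_8_0) 50000 invc_8_50000) 50000 invc_8_100000) 50000 invc_8_150000) 50000 invc_8_200000) 50000 invc_8_250000) 50000 invc_8_300000) 18280 invc_8_350000)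

theorem inv_9 : ∀ v, v < 368280 → mT 9 v < 368280 ∧ mT 8 (mT 9 v) = v :=
  (inv_step (inv_step (inv_step (inv_step (inv_step (inv_step (inv_step (inv_step (fun v hv => absurd hv (by omega)) 50000 invc_9_0) 50000 invc_9_50000) 50000 invc_9_100000) 50000 invc_9_150000) 50000 invc_9_200000) 50000 invc_9_250000) 50000 invc_9_300000) 18280 invc_9_350000)

theorem inv_10 : ∀ v, v < 368280 → mT 10 v < 368280 ∧ mT 11 (mT 10 v) = v :=
  (inv_step (inv_step (inv_step (inv_step (inv_step (inv_step (inv_step (inv_step (fun v hv => absurd hv (by omega)) 50000 invc_10_0) 50000 invc_10_50000) 50000 invc_10_100000) 50000 invc_10_150000) 50000 invc_10_200000) 50000 invc_10_250000) 50000 invc_10_300000) 18280 invc_10_350000)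

theorem inv_11 : ∀ v, v < 368280 → mT 11 v < 368280 ∧ mT 10 (mT 11 v) = v :=
  (inv_step (inv_step (inv_step (inv_step (inv_step (inv_step (inv_step (inv_step (fun v hv => absurd hv (by omega)) 50000 invc_11_0) 50000 invc_11_50000) 50000 invc_11_100000) 50000 invc_11_150000) 50000 invc_11_200000) 50000 invc_11_250000) 50000 invc_11_300000) 18280 invc_11_350000)

theorem inv_12 : ∀ v, v < 368280 → mT 12 v < 368280 ∧ mT 13 (mT 12 v) = v :=
  (inv_step (inv_step (inv_step (inv_step (inv_step (inv_step (inv_step (inv_step (fun v hv => absurd hv (by omega)) 50000 invc_12_0) 50000 invc_12_50000) 50000 invc_12_100000) 50000 invc_12_150000) 50000 invc_12_200000) 50000 invc_12_250000) 50000 invc_12_300000) 18280 invc_12_350000)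

theorem inv_13 : ∀ v, v < 368280 → mT 13 v < 368280 ∧ mT 12 (mT 13 v) = v :=
  (inv_step (inv_step (inv_step (inv_step (inv_step (inv_step (inv_step (inv_step (fun v hv => absurd hv (by omega)) 50000 invc_13_0) 50000 invc_13_50000) 50000 invc_13_100000) 50000 invc_13_150000) 50000 invc_13_200000) 50000 invc_13_250000) 50000 invc_13_300000) 18280 invc_13_350000)

theorem tableOK : TableOKI (2 * (6 + 1)) 368280 linv mT := by
  intro x hx v hv
  have hx' : x < 14 := hx
  interval_cases x
  · exact inv_0 v hv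
  · exact inv_1 v hv
  · exact inv_2 v hv
  · exact inv_3 v hv
  · exact inv_4 v hv
  · exact inv_5 v hv
  · exact inv_6 v hv
  · exact inv_7 v hv
  · exact inv_8 v hv
  · exact inv_9 v hv
  · exact inv_10 v hv
  · exact inv_11 v hv
  · exact inv_12 v hv
  · exact inv_13 v hv

theorem actw_0 : ∀ v, actL mT w_0 v = W_0 v := by
  intro v
  simp (maxSteps := 100000000) only [w_0, actL, W_0, forceL_eq]
  rfl

theorem fixW_0 : ∀ v, v < 368280 → W_0 v = v :=
  (fixW_step (fixW_step (fixW_step (fixW_step (fixW_step (fixW_step (fixW_step (fixW_step (fixW_step (fixW_step (fixW_step (fixW_step (fixW_step (fixW_step (fixW_step (fun v hv => absurd hv (by omega)) 25000 fixc_0_0) 25000 fixc_0_25000) 25000 fixc_0_50000) 25000 fixc_0_75000) 25000 fixc_0_100000) 25000 fixc_0_125000) 25000 fixc_0_150000) 25000 fixc_0_175000) 25000 fixc_0_200000) 25000 fixc_0_225000) 25000 fixc_0_250000) 25000 fixc_0_275000) 25000 fixc_0_300000) 25000 fixc_0_325000) 18280 fixc_0_350000)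

theorem fix_0 : ∀ v, v < 368280 → actL mT w_0 v = v := fun v hv => by
  rw [actw_0]
  exact fixW_0 v hv

theorem actw_1 : ∀ v, actL mT w_1 v = W_1 v := by
  intro v
  simp (maxSteps := 100000000) only [w_1, actL, W_1, forceL_eq]
  rfl

theorem fixW_1 : ∀ v, v < 368280 → W_1 v = v :=
  (fixW_step (fixW_step (fixW_step (fixW_step (fixW_step (fixW_step (fixW_step (fixW_step (fixW_step (fixW_step (fixW_step (fixW_step (fixW_step (fixW_step (fixW_step (fun v hv => absurd hv (by omega)) 25000 fixc_1_0) 25000 fixc_1_25000) 25000 fixc_1_50000) 25000 fixc_1_75000) 25000 fixc_1_100000) 25000 fixc_1_125000) 25000 fixc_1_150000) 25000 fixc_1_175000) 25000 fixc_1_200000) 25000 fixc_1_225000) 25000 fixc_1_250000) 25000 fixc_1_275000) 25000 fixc_1_300000) 25000 fixc_1_325000) 18280 fixc_1_350000)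

theorem fix_1 : ∀ v, v < 368280 → actL mT w_1 v = v := fun v hv => by
  rw [actw_1]
  exact fixW_1 v hv

theorem actw_2 : ∀ v, actL mT w_2 v = W_2 v := by
  intro v
  simp (maxSteps := 100000000) only [w_2, actL, W_2, forceL_eq]
  rfl

theorem fixW_2 : ∀ v, v < 368280 → W_2 v = v :=
  (fixW_step (fixW_step (fixW_step (fixW_step (fixW_step (fixW_step (fixW_step (fixW_step (fixW_step (fixW_step (fixW_step (fixW_step (fixW_step (fixW_step (fixW_step (fun v hv => absurd hv (by omega)) 25000 fixc_2_0) 25000 fixc_2_25000) 25000 fixc_2_50000) 25000 fixc_2_75000) 25000 fixc_2_100000) 25000 fixc_2_125000) 25000 fixc_2_150000) 25000 fixc_2_175000) 25000 fixc_2_200000) 25000 fixc_2_225000) 25000 fixc_2_250000) 25000 fixc_2_275000) 25000 fixc_2_300000) 25000 fixc_2_325000) 18280 fixc_2_350000)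

theorem fix_2 : ∀ v, v < 368280 → actL mT w_2 v = v := fun v hv => by
  rw [actw_2]
  exact fixW_2 v hv

theorem actw_3 : ∀ v, actL mT w_3 v = W_3 v := by
  intro v
  simp (maxSteps := 100000000) only [w_3, actL, W_3, forceL_eq]
  rfl

theorem fixW_3 : ∀ v, v < 368280 → W_3 v = v :=
  (fixW_step (fixW_step (fixW_step (fixW_step (fixW_step (fixW_step (fixW_step (fixW_step (fixW_step (fixW_step (fixW_step (fixW_step (fixW_step (fixW_step (fixW_step (fun v hv => absurd hv (by omega)) 25000 fixc_3_0) 25000 fixc_3_25000) 25000 fixc_3_50000) 25000 fixc_3_75000) 25000 fixc_3_100000) 25000 fixc_3_125000) 25000 fixc_3_150000) 25000 fixc_3_175000) 25000 fixc_3_200000) 25000 fixc_3_225000) 25000 fixc_3_250000) 25000 fixc_3_275000) 25000 fixc_3_300000) 25000 fixc_3_325000) 18280 fixc_3_350000)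

theorem fix_3 : ∀ v, v < 368280 → actL mT w_3 v = v := fun v hv => by
  rw [actw_3]
  exact fixW_3 v hv

theorem actw_4 : ∀ v, actL mT w_4 v = W_4 v := by
  intro v
  simp (maxSteps := 100000000) only [w_4, actL, W_4, forceL_eq]
  rfl

theorem fixW_4 : ∀ v, v < 368280 → W_4 v = v :=
  (fixW_step (fixW_step (fixW_step (fixW_step (fixW_step (fixW_step (fixW_step (fixW_step (fixW_step (fixW_step (fixW_step (fixW_step (fixW_step (fixW_step (fixW_step (fun v hv => absurd hv (by omega)) 25000 fixc_4_0) 25000 fixc_4_25000) 25000 fixc_4_50000) 25000 fixc_4_75000) 25000 fixc_4_100000) 25000 fixc_4_125000) 25000 fixc_4_150000) 25000 fixc_4_175000) 25000 fixc_4_200000) 25000 fixc_4_225000) 25000 fixc_4_250000) 25000 fixc_4_275000) 25000 fixc_4_300000) 25000 fixc_4_325000) 18280 fixc_4_350000)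

theorem fix_4 : ∀ v, v < 368280 → actL mT w_4 v = v := fun v hv => by
  rw [actw_4]
  exact fixW_4 v hv

theorem actw_5 : ∀ v, actL mT w_5 v = W_5 v := by
  intro v
  simp (maxSteps := 100000000) only [w_5, actL, W_5, forceL_eq]
  rfl

theorem fixW_5 : ∀ v, v < 368280 → W_5 v = v :=
  (fixW_step (fixW_step (fixW_step (fixW_step (fixW_step (fixW_step (fixW_step (fixW_step (fixW_step (fixW_step (fixW_step (fixW_step (fixW_step (fixW_step (fixW_step (fun v hv => absurd hv (by omega)) 25000 fixc_5_0) 25000 fixc_5_25000) 25000 fixc_5_50000) 25000 fixc_5_75000) 25000 fixc_5_100000) 25000 fixc_5_125000) 25000 fixc_5_150000) 25000 fixc_5_175000) 25000 fixc_5_200000) 25000 fixc_5_225000) 25000 fixc_5_250000) 25000 fixc_5_275000) 25000 fixc_5_300000) 25000 fixc_5_325000) 18280 fixc_5_350000)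

theorem fix_5 : ∀ v, v < 368280 → actL mT w_5 v = v := fun v hv => by
  rw [actw_5]
  exact fixW_5 v hv

theorem actw_6 : ∀ v, actL mT w_6 v = W_6 v := by
  intro v
  simp (maxSteps := 100000000) only [w_6, actL, W_6, forceL_eq]
  rfl

theorem fixW_6 : ∀ v, v < 368280 → W_6 v = v :=
  (fixW_step (fixW_step (fixW_step (fixW_step (fixW_step (fixW_step (fixW_step (fixW_step (fixW_step (fixW_step (fixW_step (fixW_step (fixW_step (fixW_step (fixW_step (fixW_step (fixW_step (fixW_step (fixW_step (fixW_step (fixW_step (fixW_step (fixW_step (fixW_step (fixW_step (fixW_step (fixW_step (fixW_step (fixW_step (fixW_step (fixW_step (fixW_step (fixW_step (fixW_step (fixW_step (fixW_step (fixW_step (fun v hv => absurd hv (by omega)) 10000 fixc_6_0) 10000 fixc_6_10000) 10000 fixc_6_20000) 10000 fixc_6_30000) 10000 fixc_6_40000) 10000 fixc_6_50000) 10000 fixc_6_60000) 10000 fixc_6_70000) 10000 fixc_6_80000) 10000 fixc_6_90000) 10000 fixc_6_100000) 10000 fixc_6_110000) 10000 fixc_6_120000) 10000 fixc_6_130000)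 10000 fixc_6_140000) 10000 fixc_6_150000) 10000 fixc_6_160000) 10000 fixc_6_170000) 10000 fixc_6_180000) 10000 fixc_6_190000) 10000 fixc_6_200000) 10000 fixc_6_210000) 10000 fixc_6_220000) 10000 fixc_6_230000) 10000 fixc_6_240000) 10000 fixc_6_250000) 10000 fixc_6_260000) 10000 fixc_6_270000) 10000 fixc_6_280000) 10000 fixc_6_290000) 10000 fixc_6_300000) 10000 fixc_6_310000) 10000 fixc_6_320000) 10000 fixc_6_330000) 10000 fixc_6_340000) 10000 fixc_6_350000) 8280 fixc_6_360000)

theorem fix_6 : ∀ v, v < 368280 → actL mT w_6 v = v := fun v hv => by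
  rw [actw_6]
  exact fixW_6 v hv

theorem actw_7 : ∀ v, actL mT w_7 v = W_7 v := by
  intro v
  simp (maxSteps := 100000000) only [w_7, actL, W_7, forceL_eq]
  rfl

theorem fixW_7 : ∀ v, v < 368280 → W_7 v = v :=
  (fixW_step (fixW_step (fixW_step (fixW_step (fixW_step (fixW_step (fixW_step (fixW_step (fixW_step (fixW_step (fixW_step (fixW_step (fixW_step (fixW_step (fixW_step (fixW_step (fixW_step (fixW_step (fixW_step (fixW_step (fixW_step (fixW_step (fixW_step (fixW_step (fixW_step (fixW_step (fixW_step (fixW_step (fixW_step (fixW_step (fixW_step (fixW_step (fixW_step (fixW_step (fixW_step (fixW_step (fixW_step (fun v hv => absurd hv (by omega)) 10000 fixc_7_0) 10000 fixc_7_10000) 10000 fixc_7_20000) 10000 fixc_7_30000) 10000 fixc_7_40000) 10000 fixc_7_50000) 10000 fixc_7_60000) 10000 fixc_7_70000) 10000 fixc_7_80000) 10000 fixc_7_90000) 10000 fixc_7_100000) 10000 fixc_7_110000) 10000 fixc_7_120000) 10000 fixc_7_130000) 10000 fixc_7_140000) 10000 fixc_7_150000) 10000 fixc_7_160000)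 10000 fixc_7_170000) 10000 fixc_7_180000) 10000 fixc_7_190000) 10000 fixc_7_200000) 10000 fixc_7_210000) 10000 fixc_7_220000) 10000 fixc_7_230000) 10000 fixc_7_240000) 10000 fixc_7_250000) 10000 fixc_7_260000) 10000 fixc_7_270000) 10000 fixc_7_280000) 10000 fixc_7_290000) 10000 fixc_7_300000) 10000 fixc_7_310000) 10000 fixc_7_320000) 10000 fixc_7_330000) 10000 fixc_7_340000) 10000 fixc_7_350000) 8280 fixc_7_360000)

theorem fix_7 : ∀ v, v < 368280 → actL mT w_7 v = v := fun v hv => by
  rw [actw_7]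
  exact fixW_7 v hv

theorem actw_8 : ∀ v, actL mT w_8 v = W_8 v := by
  intro v
  simp (maxSteps := 100000000) only [w_8, actL, W_8, forceL_eq]
  rfl

theorem fixW_8 : ∀ v, v < 368280 → W_8 v = v :=
  (fixW_step (fixW_step (fixW_step (fixW_step (fixW_step (fixW_step (fixW_step (fixW_step (fixW_step (fixW_step (fixW_step (fixW_step (fixW_step (fixW_step (fixW_step (fixW_step (fixW_step (fixW_step (fixW_step (fixW_step (fixW_step (fixW_step (fixW_step (fixW_step (fixW_step (fixW_step (fixW_step (fixW_step (fixW_step (fixW_step (fixW_step (fixW_step (fixW_step (fixW_step (fixW_step (fixW_step (fixW_step (fun v hv => absurd hv (by omega)) 10000 fixc_8_0) 10000 fixc_8_10000) 10000 fixc_8_20000) 10000 fixc_8_30000) 10000 fixc_8_40000) 10000 fixc_8_50000) 10000 fixc_8_60000) 10000 fixc_8_70000) 10000 fixc_8_80000) 10000 fixc_8_90000) 10000 fixc_8_100000) 10000 fixc_8_110000) 10000 fixc_8_120000) 10000 fixc_8_130000) 10000 fixc_8_140000) 10000 fixc_8_150000) 10000 fixc_8_160000) 10000 fixc_8_170000)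 10000 fixc_8_180000) 10000 fixc_8_190000) 10000 fixc_8_200000) 10000 fixc_8_210000) 10000 fixc_8_220000) 10000 fixc_8_230000) 10000 fixc_8_240000) 10000 fixc_8_250000) 10000 fixc_8_260000) 10000 fixc_8_270000) 10000 fixc_8_280000) 10000 fixc_8_290000) 10000 fixc_8_300000) 10000 fixc_8_310000) 10000 fixc_8_320000) 10000 fixc_8_330000) 10000 fixc_8_340000) 10000 fixc_8_350000) 8280 fixc_8_360000)

theorem fix_8 : ∀ v, v < 368280 → actL mT w_8 v = v := fun v hv => by
  rw [actw_8]
  exact fixW_8 v hv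

theorem actw_9 : ∀ v, actL mT w_9 v = W_9 v := by
  intro v
  simp (maxSteps := 100000000) only [w_9, actL, W_9, forceL_eq]
  rfl

theorem fixW_9 : ∀ v, v < 368280 → W_9 v = v :=
  (fixW_step (fixW_step (fixW_step (fixW_step (fixW_step (fixW_step (fixW_step (fixW_step (fixW_step (fixW_step (fixW_step (fixW_step (fixW_step (fixW_step (fixW_step (fixW_step (fixW_step (fixW_step (fixW_step (fixW_step (fixW_step (fixW_step (fixW_step (fixW_step (fixW_step (fixW_step (fixW_step (fixW_step (fixW_step (fixW_step (fixW_step (fixW_step (fixW_step (fixW_step (fixW_step (fixW_step (fixW_step (fixW_step (fixW_step (fixW_step (fixW_step (fixW_step (fixW_step (fixW_step (fixW_step (fixW_step (fixW_step (fixW_step (fixW_step (fixW_step (fixW_step (fixW_step (fixW_step (fixW_step (fixW_step (fixW_step (fixW_step (fixW_step (fixW_step (fixW_step (fixW_step (fixW_step (fixW_step (fixW_step (fixW_step (fixW_step (fixW_step (fixW_step (fixW_step (fixW_step (fixW_step (fixW_step (fixW_step (fixW_step (fixW_step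 (fixW_step (fixW_step (fixW_step (fun v hv => absurd hv (by omega)) 4761 fixc_9_0) 4761 fixc_9_4761) 4761 fixc_9_9522) 4761 fixc_9_14283) 4761 fixc_9_19044) 4761 fixc_9_23805) 4761 fixc_9_28566) 4761 fixc_9_33327) 4761 fixc_9_38088) 4761 fixc_9_42849) 4761 fixc_9_47610) 4761 fixc_9_52371) 4761 fixc_9_57132) 4761 fixc_9_61893) 4761 fixc_9_66654) 4761 fixc_9_71415) 4761 fixc_9_76176) 4761 fixc_9_80937) 4761 fixc_9_85698) 4761 fixc_9_90459) 4761 fixc_9_95220) 4761 fixc_9_99981) 4761 fixc_9_104742) 4761 fixc_9_109503) 4761 fixc_9_114264) 4761 fixc_9_119025) 4761 fixc_9_123786) 4761 fixc_9_128547) 4761 fixc_9_133308) 4761 fixc_9_138069) 4761 fixc_9_142830) 4761 fixc_9_147591) 4761 fixc_9_152352) 4761 fixc_9_157113) 4761 fixc_9_161874) 4761 fixc_9_166635) 4761 fixc_9_171396) 4761 fixc_9_176157) 4761 fixc_9_180918) 4761 fixc_9_185679) 4761 fixc_9_190440) 4761 fixc_9_195201) 4761 fixc_9_199962) 4761 fixc_9_204723) 4761 fixc_9_209484) 4761 fixc_9_214245) 4761 fixc_9_219006) 4761 fixc_9_223767)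 4761 fixc_9_228528) 4761 fixc_9_233289) 4761 fixc_9_238050) 4761 fixc_9_242811) 4761 fixc_9_247572) 4761 fixc_9_252333) 4761 fixc_9_257094) 4761 fixc_9_261855) 4761 fixc_9_266616) 4761 fixc_9_271377) 4761 fixc_9_276138) 4761 fixc_9_280899) 4761 fixc_9_285660) 4761 fixc_9_290421) 4761 fixc_9_295182) 4761 fixc_9_299943) 4761 fixc_9_304704) 4761 fixc_9_309465) 4761 fixc_9_314226) 4761 fixc_9_318987) 4761 fixc_9_323748) 4761 fixc_9_328509) 4761 fixc_9_333270) 4761 fixc_9_338031) 4761 fixc_9_342792) 4761 fixc_9_347553) 4761 fixc_9_352314) 4761 fixc_9_357075) 4761 fixc_9_361836) 1683 fixc_9_366597)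

theorem fix_9 : ∀ v, v < 368280 → actL mT w_9 v = v := fun v hv => by
  rw [actw_9]
  exact fixW_9 v hv

theorem actw_10 : ∀ v, actL mT w_10 v = W_10 v := by
  intro v
  simp (maxSteps := 100000000) only [w_10, actL, W_10, forceL_eq]
  rfl

theorem fixW_10 : ∀ v, v < 368280 → W_10 v = v :=
  (fixW_step (fixW_step (fixW_step (fixW_step (fixW_step (fixW_step (fixW_step (fixW_step (fixW_step (fixW_step (fixW_step (fixW_step (fixW_step (fixW_step (fixW_step (fixW_step (fixW_step (fixW_step (fixW_step (fixW_step (fixW_step (fixW_step (fixW_step (fixW_step (fixW_step (fixW_step (fixW_step (fixW_step (fixW_step (fixW_step (fixW_step (fixW_step (fixW_step (fixW_step (fixW_step (fixW_step (fixW_step (fixW_step (fixW_step (fixW_step (fixW_step (fixW_step (fixW_step (fixW_step (fixW_step (fun v hv => absurd hv (by omega)) 8333 fixc_10_0) 8333 fixc_10_8333) 8333 fixc_10_16666) 8333 fixc_10_24999) 8333 fixc_10_33332) 8333 fixc_10_41665) 8333 fixc_10_49998) 8333 fixc_10_58331) 8333 fixc_10_66664)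 8333 fixc_10_74997) 8333 fixc_10_83330) 8333 fixc_10_91663) 8333 fixc_10_99996) 8333 fixc_10_108329) 8333 fixc_10_116662) 8333 fixc_10_124995) 8333 fixc_10_133328) 8333 fixc_10_141661) 8333 fixc_10_149994) 8333 fixc_10_158327) 8333 fixc_10_166660) 8333 fixc_10_174993) 8333 fixc_10_183326) 8333 fixc_10_191659) 8333 fixc_10_199992) 8333 fixc_10_208325) 8333 fixc_10_216658) 8333 fixc_10_224991) 8333 fixc_10_233324) 8333 fixc_10_241657) 8333 fixc_10_249990) 8333 fixc_10_258323) 8333 fixc_10_266656) 8333 fixc_10_274989) 8333 fixc_10_283322) 8333 fixc_10_291655) 8333 fixc_10_299988) 8333 fixc_10_308321) 8333 fixc_10_316654) 8333 fixc_10_324987) 8333 fixc_10_333320) 8333 fixc_10_341653) 8333 fixc_10_349986) 8333 fixc_10_358319) 1628 fixc_10_366652)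

theorem fix_10 : ∀ v, v < 368280 → actL mT w_10 v = v := fun v hv => by
  rw [actw_10]
  exact fixW_10 v hv

theorem actw_11 : ∀ v, actL mT w_11 v = W_11 v := by
  intro v
  simp (maxSteps := 100000000) only [w_11, actL, W_11, forceL_eq]
  rfl

theorem fixW_11 : ∀ v, v < 368280 → W_11 v = v :=
  (fixW_step (fixW_step (fixW_step (fixW_step (fixW_step (fixW_step (fixW_step (fixW_step (fixW_step (fixW_step (fixW_step (fixW_step (fixW_step (fixW_step (fixW_step (fixW_step (fixW_step (fixW_step (fixW_step (fixW_step (fixW_step (fixW_step (fixW_step (fixW_step (fixW_step (fixW_step (fixW_step (fixW_step (fixW_step (fixW_step (fixW_step (fixW_step (fixW_step (fixW_step (fixW_step (fixW_step (fixW_step (fixW_step (fixW_step (fixW_step (fixW_step (fixW_step (fixW_step (fixW_step (fixW_step (fun v hv => absurd hv (by omega)) 8333 fixc_11_0) 8333 fixc_11_8333) 8333 fixc_11_16666) 8333 fixc_11_24999) 8333 fixc_11_33332) 8333 fixc_11_41665) 8333 fixc_11_49998) 8333 fixc_11_58331) 8333 fixc_11_66664)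 8333 fixc_11_74997) 8333 fixc_11_83330) 8333 fixc_11_91663) 8333 fixc_11_99996) 8333 fixc_11_108329) 8333 fixc_11_116662) 8333 fixc_11_124995) 8333 fixc_11_133328) 8333 fixc_11_141661) 8333 fixc_11_149994) 8333 fixc_11_158327) 8333 fixc_11_166660) 8333 fixc_11_174993) 8333 fixc_11_183326) 8333 fixc_11_191659) 8333 fixc_11_199992) 8333 fixc_11_208325) 8333 fixc_11_216658) 8333 fixc_11_224991) 8333 fixc_11_233324) 8333 fixc_11_241657) 8333 fixc_11_249990) 8333 fixc_11_258323) 8333 fixc_11_266656) 8333 fixc_11_274989) 8333 fixc_11_283322) 8333 fixc_11_291655) 8333 fixc_11_299988) 8333 fixc_11_308321) 8333 fixc_11_316654) 8333 fixc_11_324987) 8333 fixc_11_333320) 8333 fixc_11_341653) 8333 fixc_11_349986) 8333 fixc_11_358319) 1628 fixc_11_366652)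

theorem fix_11 : ∀ v, v < 368280 → actL mT w_11 v = v := fun v hv => by
  rw [actw_11]
  exact fixW_11 v hv

theorem actw_12 : ∀ v, actL mT w_12 v = W_12 v := by
  intro v
  simp (maxSteps := 100000000) only [w_12, actL, W_12, forceL_eq]
  rfl

theorem fixW_12 : ∀ v, v < 368280 → W_12 v = v :=
  (fixW_step (fixW_step (fixW_step (fixW_step (fixW_step (fixW_step (fixW_step (fixW_step (fixW_step (fixW_step (fixW_step (fixW_step (fixW_step (fixW_step (fixW_step (fixW_step (fixW_step (fixW_step (fixW_step (fixW_step (fixW_step (fixW_step (fixW_step (fun v hv => absurd hv (by omega)) 16666 fixc_12_0) 16666 fixc_12_16666) 16666 fixc_12_33332) 16666 fixc_12_49998) 16666 fixc_12_66664) 16666 fixc_12_83330) 16666 fixc_12_99996) 16666 fixc_12_116662) 16666 fixc_12_133328) 16666 fixc_12_149994) 16666 fixc_12_166660) 16666 fixc_12_183326) 16666 fixc_12_199992) 16666 fixc_12_216658) 16666 fixc_12_233324) 16666 fixc_12_249990) 16666 fixc_12_266656) 16666 fixc_12_283322) 16666 fixc_12_299988) 16666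 fixc_12_316654) 16666 fixc_12_333320) 16666 fixc_12_349986) 1628 fixc_12_366652)

theorem fix_12 : ∀ v, v < 368280 → actL mT w_12 v = v := fun v hv => by
  rw [actw_12]
  exact fixW_12 v hv

theorem actw_13 : ∀ v, actL mT w_13 v = W_13 v := by
  intro v
  simp (maxSteps := 100000000) only [w_13, actL, W_13, forceL_eq]
  rfl

theorem fixW_13 : ∀ v, v < 368280 → W_13 v = v :=
  (fixW_step (fixW_step (fixW_step (fixW_step (fixW_step (fixW_step (fixW_step (fixW_step (fixW_step (fixW_step (fixW_step (fixW_step (fixW_step (fixW_step (fixW_step (fun v hv => absurd hv (by omega)) 25000 fixc_13_0) 25000 fixc_13_25000) 25000 fixc_13_50000) 25000 fixc_13_75000) 25000 fixc_13_100000) 25000 fixc_13_125000) 25000 fixc_13_150000) 25000 fixc_13_175000) 25000 fixc_13_200000) 25000 fixc_13_225000) 25000 fixc_13_250000) 25000 fixc_13_275000) 25000 fixc_13_300000) 25000 fixc_13_325000) 18280 fixc_13_350000)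

theorem fix_13 : ∀ v, v < 368280 → actL mT w_13 v = v := fun v hv => by
  rw [actw_13]
  exact fixW_13 v hv

theorem actw_14 : ∀ v, actL mT w_14 v = W_14 v := by
  intro v
  simp (maxSteps := 100000000) only [w_14, actL, W_14, forceL_eq]
  rfl

theorem fixW_14 : ∀ v, v < 368280 → W_14 v = v :=
  (fixW_step (fixW_step (fixW_step (fixW_step (fixW_step (fixW_step (fixW_step (fixW_step (fixW_step (fixW_step (fixW_step (fixW_step (fixW_step (fixW_step (fixW_step (fun v hv => absurd hv (by omega)) 25000 fixc_14_0) 25000 fixc_14_25000) 25000 fixc_14_50000) 25000 fixc_14_75000) 25000 fixc_14_100000) 25000 fixc_14_125000) 25000 fixc_14_150000) 25000 fixc_14_175000) 25000 fixc_14_200000) 25000 fixc_14_225000) 25000 fixc_14_250000) 25000 fixc_14_275000) 25000 fixc_14_300000) 25000 fixc_14_325000) 18280 fixc_14_350000)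

theorem fix_14 : ∀ v, v < 368280 → actL mT w_14 v = v := fun v hv => by
  rw [actw_14]
  exact fixW_14 v hv

theorem actw_15 : ∀ v, actL mT w_15 v = W_15 v := by
  intro v
  simp (maxSteps := 100000000) only [w_15, actL, W_15, forceL_eq]
  rfl

theorem fixW_15 : ∀ v, v < 368280 → W_15 v = v :=
  (fixW_step (fixW_step (fixW_step (fixW_step (fixW_step (fixW_step (fixW_step (fixW_step (fixW_step (fixW_step (fixW_step (fixW_step (fixW_step (fixW_step (fixW_step (fun v hv => absurd hv (by omega)) 25000 fixc_15_0) 25000 fixc_15_25000) 25000 fixc_15_50000) 25000 fixc_15_75000) 25000 fixc_15_100000) 25000 fixc_15_125000) 25000 fixc_15_150000) 25000 fixc_15_175000) 25000 fixc_15_200000) 25000 fixc_15_225000) 25000 fixc_15_250000) 25000 fixc_15_275000) 25000 fixc_15_300000) 25000 fixc_15_325000) 18280 fixc_15_350000)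

theorem fix_15 : ∀ v, v < 368280 → actL mT w_15 v = v := fun v hv => by
  rw [actw_15]
  exact fixW_15 v hv

theorem actw_16 : ∀ v, actL mT w_16 v = W_16 v := by
  intro v
  simp (maxSteps := 100000000) only [w_16, actL, W_16, forceL_eq]
  rfl

theorem fixW_16 : ∀ v, v < 368280 → W_16 v = v :=
  (fixW_step (fixW_step (fixW_step (fixW_step (fixW_step (fixW_step (fixW_step (fixW_step (fixW_step (fixW_step (fixW_step (fixW_step (fixW_step (fixW_step (fixW_step (fixW_step (fixW_step (fixW_step (fixW_step (fixW_step (fixW_step (fixW_step (fixW_step (fixW_step (fixW_step (fixW_step (fixW_step (fixW_step (fixW_step (fixW_step (fixW_step (fixW_step (fixW_step (fixW_step (fixW_step (fixW_step (fixW_step (fixW_step (fixW_step (fixW_step (fixW_step (fixW_step (fixW_step (fixW_step (fixW_step (fixW_step (fixW_step (fixW_step (fixW_step (fixW_step (fixW_step (fixW_step (fixW_step (fixW_step (fixW_step (fixW_step (fixW_step (fixW_step (fixW_step (fixW_step (fixW_step (fixW_step (fixW_step (fixW_step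 (fixW_step (fixW_step (fixW_step (fixW_step (fixW_step (fixW_step (fixW_step (fixW_step (fixW_step (fixW_step (fixW_step (fixW_step (fixW_step (fixW_step (fixW_step (fixW_step (fixW_step (fixW_step (fixW_step (fixW_step (fixW_step (fixW_step (fixW_step (fixW_step (fixW_step (fixW_step (fixW_step (fixW_step (fixW_step (fixW_step (fixW_step (fixW_step (fixW_step (fixW_step (fixW_step (fixW_step (fixW_step (fixW_step (fixW_step (fixW_step (fixW_step (fixW_step (fixW_step (fixW_step (fixW_step (fixW_step (fixW_step (fun v hv => absurd hv (by omega)) 3333 fixc_16_0) 3333 fixc_16_3333) 3333 fixc_16_6666) 3333 fixc_16_9999) 3333 fixc_16_13332) 3333 fixc_16_16665) 3333 fixc_16_19998) 3333 fixc_16_23331) 3333 fixc_16_26664) 3333 fixc_16_29997) 3333 fixc_16_33330) 3333 fixc_16_36663) 3333 fixc_16_39996) 3333 fixc_16_43329) 3333 fixc_16_46662) 3333 fixc_16_49995) 3333 fixc_16_53328) 3333 fixc_16_56661) 3333 fixc_16_59994) 3333 fixc_16_63327) 3333 fixc_16_66660) 3333 fixc_16_69993) 3333 fixc_16_73326)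 3333 fixc_16_76659) 3333 fixc_16_79992) 3333 fixc_16_83325) 3333 fixc_16_86658) 3333 fixc_16_89991) 3333 fixc_16_93324) 3333 fixc_16_96657) 3333 fixc_16_99990) 3333 fixc_16_103323) 3333 fixc_16_106656) 3333 fixc_16_109989) 3333 fixc_16_113322) 3333 fixc_16_116655) 3333 fixc_16_119988) 3333 fixc_16_123321) 3333 fixc_16_126654) 3333 fixc_16_129987) 3333 fixc_16_133320) 3333 fixc_16_136653) 3333 fixc_16_139986) 3333 fixc_16_143319) 3333 fixc_16_146652) 3333 fixc_16_149985) 3333 fixc_16_153318) 3333 fixc_16_156651) 3333 fixc_16_159984) 3333 fixc_16_163317) 3333 fixc_16_166650) 3333 fixc_16_169983) 3333 fixc_16_173316) 3333 fixc_16_176649) 3333 fixc_16_179982) 3333 fixc_16_183315) 3333 fixc_16_186648) 3333 fixc_16_189981) 3333 fixc_16_193314) 3333 fixc_16_196647) 3333 fixc_16_199980) 3333 fixc_16_203313) 3333 fixc_16_206646) 3333 fixc_16_209979) 3333 fixc_16_213312) 3333 fixc_16_216645) 3333 fixc_16_219978) 3333 fixc_16_223311) 3333 fixc_16_226644) 3333 fixc_16_229977) 3333 fixc_16_233310)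 3333 fixc_16_236643) 3333 fixc_16_239976) 3333 fixc_16_243309) 3333 fixc_16_246642) 3333 fixc_16_249975) 3333 fixc_16_253308) 3333 fixc_16_256641) 3333 fixc_16_259974) 3333 fixc_16_263307) 3333 fixc_16_266640) 3333 fixc_16_269973) 3333 fixc_16_273306) 3333 fixc_16_276639) 3333 fixc_16_279972) 3333 fixc_16_283305) 3333 fixc_16_286638) 3333 fixc_16_289971) 3333 fixc_16_293304) 3333 fixc_16_296637) 3333 fixc_16_299970) 3333 fixc_16_303303) 3333 fixc_16_306636) 3333 fixc_16_309969) 3333 fixc_16_313302) 3333 fixc_16_316635) 3333 fixc_16_319968) 3333 fixc_16_323301) 3333 fixc_16_326634) 3333 fixc_16_329967) 3333 fixc_16_333300) 3333 fixc_16_336633) 3333 fixc_16_339966) 3333 fixc_16_343299) 3333 fixc_16_346632) 3333 fixc_16_349965) 3333 fixc_16_353298) 3333 fixc_16_356631) 3333 fixc_16_359964) 3333 fixc_16_363297) 1650 fixc_16_366630)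

theorem fix_16 : ∀ v, v < 368280 → actL mT w_16 v = v := fun v hv => by
  rw [actw_16]
  exact fixW_16 v hv

theorem actw_17 : ∀ v, actL mT w_17 v = W_17 v := by
  intro v
  simp (maxSteps := 100000000) only [w_17, actL, W_17, forceL_eq]
  rfl

theorem fixW_17 : ∀ v, v < 368280 → W_17 v = v :=
  (fixW_step (fixW_step (fixW_step (fixW_step (fixW_step (fixW_step (fixW_step (fixW_step (fixW_step (fixW_step (fixW_step (fixW_step (fixW_step (fixW_step (fixW_step (fixW_step (fixW_step (fixW_step (fixW_step (fixW_step (fixW_step (fixW_step (fixW_step (fixW_step (fixW_step (fixW_step (fixW_step (fixW_step (fixW_step (fixW_step (fixW_step (fixW_step (fixW_step (fixW_step (fixW_step (fixW_step (fixW_step (fixW_step (fixW_step (fixW_step (fixW_step (fixW_step (fixW_step (fixW_step (fixW_step (fixW_step (fixW_step (fixW_step (fixW_step (fixW_step (fixW_step (fixW_step (fixW_step (fixW_step (fixW_step (fixW_step (fixW_step (fixW_step (fixW_step (fun v hv => absurd hv (by omega)) 6250 fixc_17_0)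 6250 fixc_17_6250) 6250 fixc_17_12500) 6250 fixc_17_18750) 6250 fixc_17_25000) 6250 fixc_17_31250) 6250 fixc_17_37500) 6250 fixc_17_43750) 6250 fixc_17_50000) 6250 fixc_17_56250) 6250 fixc_17_62500) 6250 fixc_17_68750) 6250 fixc_17_75000) 6250 fixc_17_81250) 6250 fixc_17_87500) 6250 fixc_17_93750) 6250 fixc_17_100000) 6250 fixc_17_106250) 6250 fixc_17_112500) 6250 fixc_17_118750) 6250 fixc_17_125000) 6250 fixc_17_131250) 6250 fixc_17_137500) 6250 fixc_17_143750) 6250 fixc_17_150000) 6250 fixc_17_156250) 6250 fixc_17_162500) 6250 fixc_17_168750) 6250 fixc_17_175000) 6250 fixc_17_181250) 6250 fixc_17_187500) 6250 fixc_17_193750) 6250 fixc_17_200000) 6250 fixc_17_206250) 6250 fixc_17_212500) 6250 fixc_17_218750) 6250 fixc_17_225000) 6250 fixc_17_231250) 6250 fixc_17_237500) 6250 fixc_17_243750) 6250 fixc_17_250000) 6250 fixc_17_256250) 6250 fixc_17_262500) 6250 fixc_17_268750) 6250 fixc_17_275000) 6250 fixc_17_281250) 6250 fixc_17_287500) 6250 fixc_17_293750) 6250 fixc_17_300000) 6250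 fixc_17_306250) 6250 fixc_17_312500) 6250 fixc_17_318750) 6250 fixc_17_325000) 6250 fixc_17_331250) 6250 fixc_17_337500) 6250 fixc_17_343750) 6250 fixc_17_350000) 6250 fixc_17_356250) 5780 fixc_17_362500)

theorem fix_17 : ∀ v, v < 368280 → actL mT w_17 v = v := fun v hv => by
  rw [actw_17]
  exact fixW_17 v hv

theorem actw_18 : ∀ v, actL mT w_18 v = W_18 v := by
  intro v
  simp (maxSteps := 100000000) only [w_18, actL, W_18, forceL_eq]
  rfl

theorem fixW_18 : ∀ v, v < 368280 → W_18 v = v :=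
  (fixW_step (fixW_step (fixW_step (fixW_step (fixW_step (fixW_step (fixW_step (fixW_step (fixW_step (fixW_step (fixW_step (fixW_step (fixW_step (fixW_step (fixW_step (fun v hv => absurd hv (by omega)) 25000 fixc_18_0) 25000 fixc_18_25000) 25000 fixc_18_50000) 25000 fixc_18_75000) 25000 fixc_18_100000) 25000 fixc_18_125000) 25000 fixc_18_150000) 25000 fixc_18_175000) 25000 fixc_18_200000) 25000 fixc_18_225000) 25000 fixc_18_250000) 25000 fixc_18_275000) 25000 fixc_18_300000) 25000 fixc_18_325000) 18280 fixc_18_350000)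

theorem fix_18 : ∀ v, v < 368280 → actL mT w_18 v = v := fun v hv => by
  rw [actw_18]
  exact fixW_18 v hv

theorem actw_19 : ∀ v, actL mT w_19 v = W_19 v := by
  intro v
  simp (maxSteps := 100000000) only [w_19, actL, W_19, forceL_eq]
  rfl

theorem fixW_19 : ∀ v, v < 368280 → W_19 v = v :=
  (fixW_step (fixW_step (fixW_step (fixW_step (fixW_step (fixW_step (fixW_step (fixW_step (fixW_step (fixW_step (fixW_step (fixW_step (fixW_step (fixW_step (fixW_step (fun v hv => absurd hv (by omega)) 25000 fixc_19_0) 25000 fixc_19_25000) 25000 fixc_19_50000) 25000 fixc_19_75000) 25000 fixc_19_100000) 25000 fixc_19_125000) 25000 fixc_19_150000) 25000 fixc_19_175000) 25000 fixc_19_200000) 25000 fixc_19_225000) 25000 fixc_19_250000) 25000 fixc_19_275000) 25000 fixc_19_300000) 25000 fixc_19_325000) 18280 fixc_19_350000)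

theorem fix_19 : ∀ v, v < 368280 → actL mT w_19 v = v := fun v hv => by
  rw [actw_19]
  exact fixW_19 v hv

theorem actw_20 : ∀ v, actL mT w_20 v = W_20 v := by
  intro v
  simp (maxSteps := 100000000) only [w_20, actL, W_20, forceL_eq]
  rfl

theorem fixW_20 : ∀ v, v < 368280 → W_20 v = v :=
  (fixW_step (fixW_step (fixW_step (fixW_step (fixW_step (fixW_step (fixW_step (fixW_step (fixW_step (fixW_step (fixW_step (fixW_step (fixW_step (fixW_step (fixW_step (fixW_step (fixW_step (fixW_step (fixW_step (fixW_step (fixW_step (fixW_step (fixW_step (fixW_step (fixW_step (fixW_step (fixW_step (fixW_step (fixW_step (fixW_step (fixW_step (fixW_step (fixW_step (fixW_step (fixW_step (fixW_step (fixW_step (fixW_step (fixW_step (fixW_step (fixW_step (fixW_step (fixW_step (fixW_step (fixW_step (fixW_step (fixW_step (fixW_step (fixW_step (fixW_step (fixW_step (fixW_step (fixW_step (fixW_step (fixW_step (fixW_step (fixW_step (fixW_step (fixW_step (fixW_step (fixW_step (fixW_step (fixW_step (fixW_step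 (fixW_step (fixW_step (fixW_step (fixW_step (fixW_step (fixW_step (fixW_step (fixW_step (fixW_step (fixW_step (fun v hv => absurd hv (by omega)) 5000 fixc_20_0) 5000 fixc_20_5000) 5000 fixc_20_10000) 5000 fixc_20_15000) 5000 fixc_20_20000) 5000 fixc_20_25000) 5000 fixc_20_30000) 5000 fixc_20_35000) 5000 fixc_20_40000) 5000 fixc_20_45000) 5000 fixc_20_50000) 5000 fixc_20_55000) 5000 fixc_20_60000) 5000 fixc_20_65000) 5000 fixc_20_70000) 5000 fixc_20_75000) 5000 fixc_20_80000) 5000 fixc_20_85000) 5000 fixc_20_90000) 5000 fixc_20_95000) 5000 fixc_20_100000) 5000 fixc_20_105000) 5000 fixc_20_110000) 5000 fixc_20_115000) 5000 fixc_20_120000) 5000 fixc_20_125000) 5000 fixc_20_130000) 5000 fixc_20_135000) 5000 fixc_20_140000) 5000 fixc_20_145000) 5000 fixc_20_150000) 5000 fixc_20_155000) 5000 fixc_20_160000) 5000 fixc_20_165000) 5000 fixc_20_170000) 5000 fixc_20_175000) 5000 fixc_20_180000) 5000 fixc_20_185000) 5000 fixc_20_190000) 5000 fixc_20_195000) 5000 fixc_20_200000) 5000 fixc_20_205000)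 5000 fixc_20_210000) 5000 fixc_20_215000) 5000 fixc_20_220000) 5000 fixc_20_225000) 5000 fixc_20_230000) 5000 fixc_20_235000) 5000 fixc_20_240000) 5000 fixc_20_245000) 5000 fixc_20_250000) 5000 fixc_20_255000) 5000 fixc_20_260000) 5000 fixc_20_265000) 5000 fixc_20_270000) 5000 fixc_20_275000) 5000 fixc_20_280000) 5000 fixc_20_285000) 5000 fixc_20_290000) 5000 fixc_20_295000) 5000 fixc_20_300000) 5000 fixc_20_305000) 5000 fixc_20_310000) 5000 fixc_20_315000) 5000 fixc_20_320000) 5000 fixc_20_325000) 5000 fixc_20_330000) 5000 fixc_20_335000) 5000 fixc_20_340000) 5000 fixc_20_345000) 5000 fixc_20_350000) 5000 fixc_20_355000) 5000 fixc_20_360000) 3280 fixc_20_365000)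

theorem fix_20 : ∀ v, v < 368280 → actL mT w_20 v = v := fun v hv => by
  rw [actw_20]
  exact fixW_20 v hv

theorem actw_21 : ∀ v, actL mT w_21 v = W_21 v := by
  intro v
  simp (maxSteps := 100000000) only [w_21, actL, W_21, forceL_eq]
  rfl

theorem fixW_21 : ∀ v, v < 368280 → W_21 v = v :=
  (fixW_step (fixW_step (fixW_step (fixW_step (fixW_step (fixW_step (fixW_step (fixW_step (fixW_step (fixW_step (fixW_step (fixW_step (fixW_step (fixW_step (fixW_step (fixW_step (fixW_step (fixW_step (fixW_step (fixW_step (fixW_step (fixW_step (fixW_step (fun v hv => absurd hv (by omega)) 16666 fixc_21_0) 16666 fixc_21_16666) 16666 fixc_21_33332) 16666 fixc_21_49998) 16666 fixc_21_66664) 16666 fixc_21_83330) 16666 fixc_21_99996) 16666 fixc_21_116662) 16666 fixc_21_133328) 16666 fixc_21_149994) 16666 fixc_21_166660) 16666 fixc_21_183326) 16666 fixc_21_199992) 16666 fixc_21_216658) 16666 fixc_21_233324) 16666 fixc_21_249990) 16666 fixc_21_266656) 16666 fixc_21_283322) 16666 fixc_21_299988) 16666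 fixc_21_316654) 16666 fixc_21_333320) 16666 fixc_21_349986) 1628 fixc_21_366652)

theorem fix_21 : ∀ v, v < 368280 → actL mT w_21 v = v := fun v hv => by
  rw [actw_21]
  exact fixW_21 v hv

theorem actw_22 : ∀ v, actL mT w_22 v = W_22 v := by
  intro v
  simp (maxSteps := 100000000) only [w_22, actL, W_22, forceL_eq]
  rfl

theorem fixW_22 : ∀ v, v < 368280 → W_22 v = v :=
  (fixW_step (fixW_step (fixW_step (fixW_step (fixW_step (fixW_step (fixW_step (fixW_step (fixW_step (fixW_step (fixW_step (fixW_step (fixW_step (fixW_step (fixW_step (fun v hv => absurd hv (by omega)) 25000 fixc_22_0) 25000 fixc_22_25000) 25000 fixc_22_50000) 25000 fixc_22_75000) 25000 fixc_22_100000) 25000 fixc_22_125000) 25000 fixc_22_150000) 25000 fixc_22_175000) 25000 fixc_22_200000) 25000 fixc_22_225000) 25000 fixc_22_250000) 25000 fixc_22_275000) 25000 fixc_22_300000) 25000 fixc_22_325000) 18280 fixc_22_350000)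

theorem fix_22 : ∀ v, v < 368280 → actL mT w_22 v = v := fun v hv => by
  rw [actw_22]
  exact fixW_22 v hv

theorem actw_23 : ∀ v, actL mT w_23 v = W_23 v := by
  intro v
  simp (maxSteps := 100000000) only [w_23, actL, W_23, forceL_eq]
  rfl

theorem fixW_23 : ∀ v, v < 368280 → W_23 v = v :=
  (fixW_step (fixW_step (fixW_step (fixW_step (fixW_step (fixW_step (fixW_step (fixW_step (fixW_step (fixW_step (fixW_step (fixW_step (fixW_step (fixW_step (fixW_step (fixW_step (fixW_step (fixW_step (fixW_step (fixW_step (fixW_step (fixW_step (fixW_step (fun v hv => absurd hv (by omega)) 16666 fixc_23_0) 16666 fixc_23_16666) 16666 fixc_23_33332) 16666 fixc_23_49998) 16666 fixc_23_66664) 16666 fixc_23_83330) 16666 fixc_23_99996) 16666 fixc_23_116662) 16666 fixc_23_133328) 16666 fixc_23_149994) 16666 fixc_23_166660) 16666 fixc_23_183326) 16666 fixc_23_199992) 16666 fixc_23_216658) 16666 fixc_23_233324) 16666 fixc_23_249990) 16666 fixc_23_266656) 16666 fixc_23_283322) 16666 fixc_23_299988) 16666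 fixc_23_316654) 16666 fixc_23_333320) 16666 fixc_23_349986) 1628 fixc_23_366652)

theorem fix_23 : ∀ v, v < 368280 → actL mT w_23 v = v := fun v hv => by
  rw [actw_23]
  exact fixW_23 v hv

theorem actw_24 : ∀ v, actL mT w_24 v = W_24 v := by
  intro v
  simp (maxSteps := 100000000) only [w_24, actL, W_24, forceL_eq]
  rfl

theorem fixW_24 : ∀ v, v < 368280 → W_24 v = v :=
  (fixW_step (fixW_step (fixW_step (fixW_step (fixW_step (fixW_step (fixW_step (fixW_step (fun v hv => absurd hv (by omega)) 50000 fixc_24_0) 50000 fixc_24_50000) 50000 fixc_24_100000) 50000 fixc_24_150000) 50000 fixc_24_200000) 50000 fixc_24_250000) 50000 fixc_24_300000) 18280 fixc_24_350000)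

theorem fix_24 : ∀ v, v < 368280 → actL mT w_24 v = v := fun v hv => by
  rw [actw_24]
  exact fixW_24 v hv

theorem actw_25 : ∀ v, actL mT w_25 v = W_25 v := by
  intro v
  simp (maxSteps := 100000000) only [w_25, actL, W_25, forceL_eq]
  rfl

theorem fixW_25 : ∀ v, v < 368280 → W_25 v = v :=
  (fixW_step (fixW_step (fixW_step (fixW_step (fixW_step (fixW_step (fixW_step (fixW_step (fun v hv => absurd hv (by omega)) 50000 fixc_25_0) 50000 fixc_25_50000) 50000 fixc_25_100000) 50000 fixc_25_150000) 50000 fixc_25_200000) 50000 fixc_25_250000) 50000 fixc_25_300000) 18280 fixc_25_350000)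

theorem fix_25 : ∀ v, v < 368280 → actL mT w_25 v = v := fun v hv => by
  rw [actw_25]
  exact fixW_25 v hv

theorem actw_26 : ∀ v, actL mT w_26 v = W_26 v := by
  intro v
  simp (maxSteps := 100000000) only [w_26, actL, W_26, forceL_eq]
  rfl

theorem fixW_26 : ∀ v, v < 368280 → W_26 v = v :=
  (fixW_step (fixW_step (fixW_step (fixW_step (fixW_step (fixW_step (fixW_step (fixW_step (fun v hv => absurd hv (by omega)) 50000 fixc_26_0) 50000 fixc_26_50000) 50000 fixc_26_100000) 50000 fixc_26_150000) 50000 fixc_26_200000) 50000 fixc_26_250000) 50000 fixc_26_300000) 18280 fixc_26_350000)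

theorem fix_26 : ∀ v, v < 368280 → actL mT w_26 v = v := fun v hv => by
  rw [actw_26]
  exact fixW_26 v hv

theorem actw_27 : ∀ v, actL mT w_27 v = W_27 v := by
  intro v
  simp (maxSteps := 100000000) only [w_27, actL, W_27, forceL_eq]
  rfl

theorem fixW_27 : ∀ v, v < 368280 → W_27 v = v :=
  (fixW_step (fixW_step (fixW_step (fixW_step (fixW_step (fixW_step (fixW_step (fixW_step (fun v hv => absurd hv (by omega)) 50000 fixc_27_0) 50000 fixc_27_50000) 50000 fixc_27_100000) 50000 fixc_27_150000) 50000 fixc_27_200000) 50000 fixc_27_250000) 50000 fixc_27_300000) 18280 fixc_27_350000)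

theorem fix_27 : ∀ v, v < 368280 → actL mT w_27 v = v := fun v hv => by
  rw [actw_27]
  exact fixW_27 v hv

theorem actw_28 : ∀ v, actL mT w_28 v = W_28 v := by
  intro v
  simp (maxSteps := 100000000) only [w_28, actL, W_28, forceL_eq]
  rfl

theorem fixW_28 : ∀ v, v < 368280 → W_28 v = v :=
  (fixW_step (fixW_step (fixW_step (fixW_step (fixW_step (fixW_step (fixW_step (fixW_step (fun v hv => absurd hv (by omega)) 50000 fixc_28_0) 50000 fixc_28_50000) 50000 fixc_28_100000) 50000 fixc_28_150000) 50000 fixc_28_200000) 50000 fixc_28_250000) 50000 fixc_28_300000) 18280 fixc_28_350000)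

theorem fix_28 : ∀ v, v < 368280 → actL mT w_28 v = v := fun v hv => by
  rw [actw_28]
  exact fixW_28 v hv

theorem actw_29 : ∀ v, actL mT w_29 v = W_29 v := by
  intro v
  simp (maxSteps := 100000000) only [w_29, actL, W_29, forceL_eq]
  rfl

theorem fixW_29 : ∀ v, v < 368280 → W_29 v = v :=
  (fixW_step (fixW_step (fixW_step (fixW_step (fixW_step (fixW_step (fixW_step (fixW_step (fixW_step (fixW_step (fixW_step (fixW_step (fixW_step (fixW_step (fixW_step (fun v hv => absurd hv (by omega)) 25000 fixc_29_0) 25000 fixc_29_25000) 25000 fixc_29_50000) 25000 fixc_29_75000) 25000 fixc_29_100000) 25000 fixc_29_125000) 25000 fixc_29_150000) 25000 fixc_29_175000) 25000 fixc_29_200000) 25000 fixc_29_225000) 25000 fixc_29_250000) 25000 fixc_29_275000) 25000 fixc_29_300000) 25000 fixc_29_325000) 18280 fixc_29_350000)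

theorem fix_29 : ∀ v, v < 368280 → actL mT w_29 v = v := fun v hv => by
  rw [actw_29]
  exact fixW_29 v hv

theorem actw_30 : ∀ v, actL mT w_30 v = W_30 v := by
  intro v
  simp (maxSteps := 100000000) only [w_30, actL, W_30, forceL_eq]
  rfl

theorem fixW_30 : ∀ v, v < 368280 → W_30 v = v :=
  (fixW_step (fixW_step (fixW_step (fixW_step (fixW_step (fixW_step (fixW_step (fixW_step (fixW_step (fixW_step (fixW_step (fixW_step (fun v hv => absurd hv (by omega)) 33333 fixc_30_0) 33333 fixc_30_33333) 33333 fixc_30_66666) 33333 fixc_30_99999) 33333 fixc_30_133332) 33333 fixc_30_166665) 33333 fixc_30_199998) 33333 fixc_30_233331) 33333 fixc_30_266664) 33333 fixc_30_299997) 33333 fixc_30_333330) 1617 fixc_30_366663)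

theorem fix_30 : ∀ v, v < 368280 → actL mT w_30 v = v := fun v hv => by
  rw [actw_30]
  exact fixW_30 v hv

theorem hcomm : ∀ i, i < 6 → ∀ v, v < 368280 → actL mT [2 * i, 2 * 6, 2 * i + 1, 2 * 6 + 1] v = v := by
  intro i hi
  interval_cases i
  · exact fix_0
  · exact fix_1
  · exact fix_2
  · exact fix_3
  · exact fix_4
  · exact fix_5

theorem hcent : ∀ r ∈ cw, ∃ k, ∀ v, v < 368280 → actL mT (r ++ List.replicate k (2 * 6)) v = v := by
  intro r hr
  simp only [cw, List.mem_cons, List.not_mem_nil, or_false] at hr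
  rcases hr with rfl | rfl | rfl | rfl | rfl | rfl | rfl | rfl | rfl | rfl | rfl | rfl | rfl | rfl | rfl | rfl | rfl | rfl
  · exact ⟨0, fix_6⟩
  · exact ⟨0, fix_7⟩
  · exact ⟨0, fix_8⟩
  · exact ⟨1, fix_9⟩
  · exact ⟨1, fix_10⟩
  · exact ⟨1, fix_11⟩
  · exact ⟨0, fix_12⟩
  · exact ⟨0, fix_13⟩
  · exact ⟨0, fix_14⟩
  · exact ⟨0, fix_15⟩
  · exact ⟨0, fix_16⟩
  · exact ⟨0, fix_17⟩
  · exact ⟨0, fix_18⟩
  · exact ⟨0, fix_19⟩
  · exact ⟨0, fix_20⟩
  · exact ⟨0, fix_21⟩
  · exact ⟨0, fix_22⟩
  · exact ⟨0, fix_23⟩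

theorem hpow : ∀ i, i < 6 → ∀ v, v < 368280 → actL mT (List.replicate (mml.getD i 0) (2 * i)) v = v := by
  intro i hi
  interval_cases i
  · exact fix_24
  · exact fix_25
  · exact fix_26
  · exact fix_27
  · exact fix_28
  · exact fix_29

theorem hsh : ∀ v, v < 368280 → actL mT (List.replicate 3 (2 * 6)) v = v := fix_30

end Cfsg.Agent.Helper9.ONM.MM
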