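import Mathlib
import Cfsg.Agent.Helper9.ONM.Pres
import Cfsg.Agent.Helper3.Tower64
import Cfsg.Agent.Helper9.ONM.A1Sum
import Cfsg.Agent.Helper9.ONM.A2Sum
import Cfsg.Agent.Helper9.ONM.A3Sum
import Cfsg.Agent.Helper9.ONM.A4Sum
import Cfsg.Agent.Helper9.ONM.A5Sum

/-!
# generated: the tower of covering groups of exponent 63 of the O'Nan group

`2 < S3 < S4 < <a,b,c,d> < L3(7):2 < O'N`: five labelled Todd–Coxeter certificates (3, 4, 28, 5586 and
122760 cosets) bound the order of the covering group of exponent 63 on the generators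
`a, b, c, d, e, g` by three times the order of the O'Nan group.
-/

set_option autoImplicit false

namespace Cfsg.Agent.Helper9.ONM

open Cfsg Cfsg.Agent.Helper5.StemP Cfsg.Agent.Helper5.LP Cfsg.Agent.Helper5.LTC
  Cfsg.Agent.Helper5.TC Cfsg.Agent.Helper5.TCI Cfsg.Agent.Helper3.LTC64 Cfsg.Agent.Helper3.Tower64

/-- a letter of a word of a two-level list of words. -/
theorem mem_words2 {L : List (List (List ℕ))} {i j c : ℕ} (h : c ∈ (L.getD i []).getD j []) :
    ∃ g ∈ L, ∃ w ∈ g, c ∈ w := by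
  by_cases hi : i < L.length
  · rw [List.getD_eq_getElem _ _ hi] at h
    by_cases hj : j < L[i].length
    · rw [List.getD_eq_getElem _ _ hj] at h
      exact ⟨L[i], List.getElem_mem hi, L[i][j], List.getElem_mem hj, h⟩
    · rw [List.getD_eq_default _ _ (by omega)] at h
      simp at h
  · have e0 : L.getD i [] = [] := List.getD_eq_default _ _ (by omega)
    rw [e0] at h
    simp at h

theorem EX1_lt : ∀ r ∈ EX1, ∀ c ∈ r, c < 2 * 2 := by decide

theorem EX2_lt : ∀ r ∈ EX2, ∀ c ∈ r, c < 2 * 3 := by decide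

theorem EX3_lt : ∀ r ∈ EX3, ∀ c ∈ r, c < 2 * 4 := by decide

theorem EX4_lt : ∀ r ∈ EX4, ∀ c ∈ r, c < 2 * 5 := by decide

theorem EX5_lt : ∀ r ∈ EX5, ∀ c ∈ r, c < 2 * 6 := by decide

theorem C1_lt : ∀ r ∈ C1, ∀ c ∈ r, c < 2 * 2 := by decide

theorem C2_lt : ∀ r ∈ C2, ∀ c ∈ r, c < 2 * 3 := by decide

theorem C3_lt : ∀ r ∈ C3, ∀ c ∈ r, c < 2 * 4 := by decide

theorem C4_lt : ∀ r ∈ C4, ∀ c ∈ r, c < 2 * 5 := by decide

theorem words_lt_1 : ∀ wi, ∀ c ∈ A1.cert.W wi, c < 2 * 2 := by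
  intro wi c hc
  have h : ∀ g ∈ A1.words2, ∀ w ∈ g, ∀ c ∈ w, c < 4 := by decide +kernel
  change c ∈ (A1.words2.getD (Nat.div wi 16) []).getD (Nat.mod wi 16) [] at hc
  obtain ⟨g, hg, w, hw, hcw⟩ := mem_words2 hc
  exact h g hg w hw c hcw

set_option maxRecDepth 1000000 in
theorem wordOK_1 : ∀ wi, wi < A1.cert.nrel →
    wordOK3 (coverRels 2 mm (EX1 ++ []) (EX1 ++ []) 63) (EX1 ++ []) EX1.length (A1.cert.W wi) (A1.cert.δ wi)
      (A1.origs.getD wi 0) = true := by decide +kernel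

theorem hsubW_1 : ∀ wi, A1.cert.nrel ≤ wi → wi < A1.cert.nw →
    ∃ c, c < 2 * 1 ∧ A1.cert.W wi = [c] := by
  intro wi h1 h2
  have h1' : 9 ≤ wi := h1
  have h2' : wi < 10 := h2
  interval_cases wi
  · exact ⟨0, by norm_num, by decide +kernel⟩

/-- the covering group of exponent 63 on the first 2 generators. -/
theorem card_1 : Finite (CovG 2 mm C1 C1 63) ∧ Nat.card (CovG 2 mm C1 C1 63) ≤ 6 := by
  have h := step64 1 2 mm [] EX1 63 (by norm_num) (by simp) EX1_lt (by norm_num) (by decide)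
    (mm 0) (Cfsg.Agent.Helper4.Tower.base mm 63 (by decide)) A1.cert rfl rfl rfl words_lt_1
    (fun wi => A1.origs.getD wi 0) wordOK_1 hsubW_1 A1.hchk A1.tab (by decide +kernel)
    (by decide) A1.hT A1.js A1.hjs 0 1 (by norm_num) (by norm_num) A1.cs0 A1.h0
    (fun i => A1.as_.getD i 0) (fun i => A1.css.getD i []) A1.hgs
  have hN : A1.tab.N = 3 := rfl
  rw [hN] at h
  rw [List.append_nil] at h
  exact ⟨h.1, h.2.trans (by decide)⟩

theorem words_lt_2 : ∀ wi, ∀ c ∈ A2.cert.W wi, c < 2 * 3 := by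
  intro wi c hc
  have h : ∀ g ∈ A2.words2, ∀ w ∈ g, ∀ c ∈ w, c < 6 := by decide +kernel
  change c ∈ (A2.words2.getD (Nat.div wi 16) []).getD (Nat.mod wi 16) [] at hc
  obtain ⟨g, hg, w, hw, hcw⟩ := mem_words2 hc
  exact h g hg w hw c hcw

set_option maxRecDepth 1000000 in
theorem wordOK_2 : ∀ wi, wi < A2.cert.nrel →
    wordOK3 (coverRels 3 mm (EX2 ++ C1) (EX2 ++ C1) 63) (EX2 ++ C1) EX2.length (A2.cert.W wi) (A2.cert.δ wi)
      (A2.origs.getD wi 0) = true := by decide +kernel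

theorem hsubW_2 : ∀ wi, A2.cert.nrel ≤ wi → wi < A2.cert.nw →
    ∃ c, c < 2 * 2 ∧ A2.cert.W wi = [c] := by
  intro wi h1 h2
  have h1' : 16 ≤ wi := h1
  have h2' : wi < 18 := h2
  interval_cases wi
  · exact ⟨0, by norm_num, by decide +kernel⟩
  · exact ⟨2, by norm_num, by decide +kernel⟩

/-- the covering group of exponent 63 on the first 3 generators. -/
theorem card_2 : Finite (CovG 3 mm C2 C2 63) ∧ Nat.card (CovG 3 mm C2 C2 63) ≤ 24 := by
  have h := step64 2 3 mm C1 EX2 63 (by norm_num) C1_lt EX2_lt (by norm_num) (by decide)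
    6 card_1 A2.cert rfl rfl rfl words_lt_2
    (fun wi => A2.origs.getD wi 0) wordOK_2 hsubW_2 A2.hchk A2.tab (by decide +kernel)
    (by decide) A2.hT A2.js A2.hjs 0 1 (by norm_num) (by norm_num) A2.cs0 A2.h0
    (fun i => A2.as_.getD i 0) (fun i => A2.css.getD i []) A2.hgs
  have hN : A2.tab.N = 4 := rfl
  rw [hN] at h
  exact ⟨h.1, h.2.trans (by decide)⟩

theorem words_lt_3 : ∀ wi, ∀ c ∈ A3.cert.W wi, c < 2 * 4 := by
  intro wi c hc
  have h : ∀ g ∈ A3.words2, ∀ w ∈ g, ∀ c ∈ w, c < 8 := by decide +kernel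
  change c ∈ (A3.words2.getD (Nat.div wi 16) []).getD (Nat.mod wi 16) [] at hc
  obtain ⟨g, hg, w, hw, hcw⟩ := mem_words2 hc
  exact h g hg w hw c hcw

set_option maxRecDepth 1000000 in
theorem wordOK_3 : ∀ wi, wi < A3.cert.nrel →
    wordOK3 (coverRels 4 mm (EX3 ++ C2) (EX3 ++ C2) 63) (EX3 ++ C2) EX3.length (A3.cert.W wi) (A3.cert.δ wi)
      (A3.origs.getD wi 0) = true := by decide +kernel

theorem hsubW_3 : ∀ wi, A3.cert.nrel ≤ wi → wi < A3.cert.nw →
    ∃ c, c < 2 * 3 ∧ A3.cert.W wi = [c] := by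
  intro wi h1 h2
  have h1' : 35 ≤ wi := h1
  have h2' : wi < 38 := h2
  interval_cases wi
  · exact ⟨0, by norm_num, by decide +kernel⟩
  · exact ⟨2, by norm_num, by decide +kernel⟩
  · exact ⟨4, by norm_num, by decide +kernel⟩

/-- the covering group of exponent 63 on the first 4 generators. -/
theorem card_3 : Finite (CovG 4 mm C3 C3 63) ∧ Nat.card (CovG 4 mm C3 C3 63) ≤ 672 := by
  have h := step64 3 4 mm C2 EX3 63 (by norm_num) C2_lt EX3_lt (by norm_num) (by decide)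
    24 card_2 A3.cert rfl rfl rfl words_lt_3
    (fun wi => A3.origs.getD wi 0) wordOK_3 hsubW_3 A3.hchk A3.tab (by decide +kernel)
    (by decide) A3.hT A3.js A3.hjs 0 1 (by norm_num) (by norm_num) A3.cs0 A3.h0
    (fun i => A3.as_.getD i 0) (fun i => A3.css.getD i []) A3.hgs
  have hN : A3.tab.N = 28 := rfl
  rw [hN] at h
  exact ⟨h.1, h.2.trans (by decide)⟩

theorem words_lt_4 : ∀ wi, ∀ c ∈ A4.cert.W wi, c < 2 * 5 := by
  intro wi c hc
  have h : ∀ g ∈ A4.words2, ∀ w ∈ g, ∀ c ∈ w, c < 10 := by decide +kernel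
  change c ∈ (A4.words2.getD (Nat.div wi 16) []).getD (Nat.mod wi 16) [] at hc
  obtain ⟨g, hg, w, hw, hcw⟩ := mem_words2 hc
  exact h g hg w hw c hcw

set_option maxRecDepth 1000000 in
theorem wordOK_4 : ∀ wi, wi < A4.cert.nrel →
    wordOK3 (coverRels 5 mm (EX4 ++ C3) (EX4 ++ C3) 63) (EX4 ++ C3) EX4.length (A4.cert.W wi) (A4.cert.δ wi)
      (A4.origs.getD wi 0) = true := by decide +kernel

theorem hsubW_4 : ∀ wi, A4.cert.nrel ≤ wi → wi < A4.cert.nw →
    ∃ c, c < 2 * 4 ∧ A4.cert.W wi = [c] := by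
  intro wi h1 h2
  have h1' : 56 ≤ wi := h1
  have h2' : wi < 60 := h2
  interval_cases wi
  · exact ⟨0, by norm_num, by decide +kernel⟩
  · exact ⟨2, by norm_num, by decide +kernel⟩
  · exact ⟨4, by norm_num, by decide +kernel⟩
  · exact ⟨6, by norm_num, by decide +kernel⟩

/-- the covering group of exponent 63 on the first 5 generators. -/
theorem card_4 : Finite (CovG 5 mm C4 C4 63) ∧ Nat.card (CovG 5 mm C4 C4 63) ≤ 3753792 := by
  have h := step64 4 5 mm C3 EX4 63 (by norm_num) C3_lt EX4_lt (by norm_num) (by decide)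
    672 card_3 A4.cert rfl rfl rfl words_lt_4
    (fun wi => A4.origs.getD wi 0) wordOK_4 hsubW_4 A4.hchk A4.tab (by decide +kernel)
    (by decide) A4.hT A4.js A4.hjs 0 1 (by norm_num) (by norm_num) A4.cs0 A4.h0
    (fun i => A4.as_.getD i 0) (fun i => A4.css.getD i []) A4.hgs
  have hN : A4.tab.N = 5586 := rfl
  rw [hN] at h
  exact ⟨h.1, h.2.trans (by decide)⟩

theorem words_lt_5 : ∀ wi, ∀ c ∈ A5.cert.W wi, c < 2 * 6 := by
  intro wi c hc
  have h : ∀ g ∈ A5.words2, ∀ w ∈ g, ∀ c ∈ w, c < 12 := by decide +kernel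
  change c ∈ (A5.words2.getD (Nat.div wi 16) []).getD (Nat.mod wi 16) [] at hc
  obtain ⟨g, hg, w, hw, hcw⟩ := mem_words2 hc
  exact h g hg w hw c hcw

set_option maxRecDepth 1000000 in
theorem wordOK_5 : ∀ wi, wi < A5.cert.nrel →
    wordOK3 (coverRels 6 mm (EX5 ++ C4) (EX5 ++ C4) 63) (EX5 ++ C4) EX5.length (A5.cert.W wi) (A5.cert.δ wi)
      (A5.origs.getD wi 0) = true := by decide +kernel

theorem hsubW_5 : ∀ wi, A5.cert.nrel ≤ wi → wi < A5.cert.nw →
    ∃ c, c < 2 * 5 ∧ A5.cert.W wi = [c] := by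
  intro wi h1 h2
  have h1' : 115 ≤ wi := h1
  have h2' : wi < 120 := h2
  interval_cases wi
  · exact ⟨0, by norm_num, by decide +kernel⟩
  · exact ⟨2, by norm_num, by decide +kernel⟩
  · exact ⟨4, by norm_num, by decide +kernel⟩
  · exact ⟨6, by norm_num, by decide +kernel⟩
  · exact ⟨8, by norm_num, by decide +kernel⟩

/-- the covering group of exponent 63 on the first 6 generators. -/
theorem card_5 : Finite (CovG 6 mm C5 C5 63) ∧ Nat.card (CovG 6 mm C5 C5 63) ≤ 1382446517760 := by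
  have h := step64 5 6 mm C4 EX5 63 (by norm_num) C4_lt EX5_lt (by norm_num) (by decide)
    3753792 card_4 A5.cert rfl rfl rfl words_lt_5
    (fun wi => A5.origs.getD wi 0) wordOK_5 hsubW_5 A5.hchk A5.tab (by decide +kernel)
    (by decide) A5.hT A5.js A5.hjs 3 3 (by norm_num) (by norm_num) A5.cs0 A5.h0
    (fun i => A5.as_.getD i 0) (fun i => A5.css.getD i []) A5.hgs
  have hN : A5.tab.N = 122760 := rfl
  rw [hN] at h
  exact ⟨h.1, h.2.trans (by decide)⟩

end Cfsg.Agent.Helper9.ONM
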