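import Mathlib
import Cfsg.Agent.Helper9.ONM.Gen
import Cfsg.Agent.Helper9.ONM.Tow
import Cfsg.Agent.Helper9.ONM.MMSum
import Cfsg.Agent.Helper4.ShiftModel
import Cfsg.Agent.Helper4.StemX
import Cfsg.Agent.Helper5.LPE
import Cfsg.Agent.Helper5.LTCH
import Cfsg.Agent.Helper5.StemPL
import Cfsg.Agent.Helper5.StemPH
import Cfsg.Agent.Helper5.StemPM

/-!
# The Schur multiplier of the O'Nan group: the covering group of exponent 63

The covering group of exponent 63 of the presentation on `a, b, c, d, e, g` along the chain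
`2 < S3 < S4 < <a,b,c,d> < L3(7):2 < O'N` has order at most `3 * |O'N|` (`Tow`); it acts on
368280 points (the cosets of `L3(7):2`, tripled), where the central word `(bcdg)^5` acts as a shift
of order 3: the kernel is cyclic of order 3, and the extension is a stem extension.  The same
covering group bounds the 3-part and the 7-part of the kernel of every stem extension.
-/

set_option autoImplicit false

namespace Cfsg.Agent.Helper9.ONM

open Cfsg Cfsg.Agent.Helper5.StemP Cfsg.Agent.Helper5.LP Cfsg.Agent.Helper5.LTC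
  Cfsg.Agent.Helper5.TC Cfsg.Agent.Helper5.TCI Cfsg.Agent.Helper4.ShM Cfsg.Agent.Helper4.StemX

/-- the covering homomorphism of exponent 63. -/
noncomputable def piF : CovG 6 mm C5 C5 63 →* P :=
  coverHomU 6 mm C5 C5 63 C52_lt g g_pow C52_rel

theorem piF_surj : Function.Surjective piF :=
  coverHomU_surjective 6 mm C5 C5 63 C52_lt g g_pow C52_rel g_closure

instance fin_F : Finite (CovG 6 mm C5 C5 63) := card_5.1

/-! ### the model -/

theorem cw_eq : MM.cw = C5 := by decide

theorem mml_eq : ∀ i, i < 6 → MM.mml.getD i 0 = mm i := by decide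

/-- the covering group acts on the model with 368280 points. -/
theorem model_F : ∃ ρ : CovG 6 mm C5 C5 63 →* Equiv.Perm (Fin 368280),
    ActsOn ρ (ev (2 * 6) (coverRels 6 mm C5 C5 63)) (2 * 6) MM.mT := by
  refine exists_model 6 mm C5 63 368280 MM.mT MM.tableOK C5_lt MM.hcomm ?_ ?_ 3
    MM.hsh (by norm_num)
  · intro r hr
    exact MM.hcent r (by rw [cw_eq]; exact hr)
  · intro i hi
    have h := MM.hpow i hi
    rwa [mml_eq i hi] at h

/-- the word `(bcdg)^5` of a central element of order 3. -/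
def zw : List ℕ := EX5.getD 3 []

theorem zw_mem : zw ∈ C5 := by decide

theorem zw_lt : ∀ c ∈ zw, c < 2 * 6 := C5_lt zw zw_mem

set_option maxRecDepth 1000000 in
theorem move_F : actL MM.mT (List.replicate 7 zw).flatten 0 ≠ 0 := by decide +kernel

/-- the central element of order 3. -/
noncomputable def z0 : CovG 6 mm C5 C5 63 := ev (2 * 6) (coverRels 6 mm C5 C5 63) zw ^ 7

theorem z0_ne : z0 ^ 3 ^ (1 - 1) ≠ 1 := by
  obtain ⟨ρ, hA⟩ := model_F
  have e1 : 3 ^ (1 - 1) = 1 := by norm_num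
  unfold z0
  rw [e1, pow_one, ev_pow]
  refine ne_one_of_move hA _ ?_ 0 (by norm_num) move_F
  intro c hc
  obtain ⟨l, hl, hcl⟩ := List.mem_flatten.mp hc
  rw [List.eq_of_mem_replicate hl] at hcl
  exact zw_lt c hcl

theorem z0_center : z0 ∈ Subgroup.center (CovG 6 mm C5 C5 63) :=
  Subgroup.pow_mem _ (cover_center 6 mm C5 C5 63 zw_mem zw_lt) 7

theorem z0_ker : z0 ∈ piF.ker :=
  Subgroup.pow_mem _ (coverHomU_ker 6 mm C5 C5 63 C52_lt g g_pow C52_rel zw_mem) 7

theorem z0_pow : z0 ^ 3 ^ 2 = 1 := by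
  unfold z0
  rw [← pow_mul, show 7 * 3 ^ 2 = 63 from rfl, ev_pow]
  exact ev_rel (mem_coverRels_T 6 mm C5 C5 63 zw_mem)

theorem mm_dvd4 : ∀ i, mm i ∣ 4 := by
  intro i
  unfold mm
  split_ifs <;> decide

theorem cgen_pow4 : ∀ x ∈ {x : CovG 6 mm C5 C5 63 | ∃ i, i < 6 ∧ x = cgen 6 mm C5 C5 63 i},
    x ^ 4 = 1 := by
  rintro x ⟨i, hi, rfl⟩
  obtain ⟨c, hc⟩ := mm_dvd4 i
  rw [hc, pow_mul, cgen_pow 6 mm C5 C5 63 (i := i) hi, one_pow]

theorem stem_F : (Cfsg.IsStemExtension piF ∧
    Nonempty (piF.ker ≃* Multiplicative (ZMod (3 ^ 1)))) ∧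
    Nat.card (CovG 6 mm C5 C5 63) = Nat.card P * 3 ^ 1 :=
  stem_cyclic_le piF piF_surj 3 1 2 Nat.prime_three (by norm_num)
    (by rw [card_P]; exact card_5.2)
    z0 z0_center z0_ker z0_pow z0_ne
    _ (closure_cgen 6 mm C5 C5 63) 4 cgen_pow4 (by decide)

theorem card_F : Nat.card (CovG 6 mm C5 C5 63) = Nat.card P * 3 := stem_F.2

/-! ### the bound for the 3-part and the 7-part of the stem extensions -/

theorem mm_cop (s : ℕ) (hs : Nat.Coprime 2 s) :
    ∀ i, i < 6 → g i ^ mm i = 1 ∧ (mm i).Coprime s := by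
  intro i hi
  refine ⟨g_pow i hi, ?_⟩
  unfold mm
  split_ifs
  · exact Nat.Coprime.pow_left 2 hs
  · exact hs

theorem bound3 (Γ : Type) [Group Γ] [Finite Γ] (σ : Γ →* P)
    (hσ : Cfsg.IsStemExtension σ) : Nat.card (qmap σ hσ.2.1 5689080320).ker ∣ 3 := by
  have hc := hσ.2.1
  have : Finite (LPG (2 * 6) (coverRels 6 mm C5 C5 63)) := card_5.1
  have hcard : Nat.card (LPG (2 * 6) (coverRels 6 mm C5 C5 63)) ∣ Nat.card P * 3 := by
    show Nat.card (CovG 6 mm C5 C5 63) ∣ _
    rw [card_F]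
  exact card_qmap_ker_dvd_of_pow_dvd σ hσ hc 3 Nat.prime_three 4 2 5689080320 63 (by norm_num)
    (by rw [card_P]; norm_num)
    6 mm C5 C5 C52_lt g g_closure (mm_cop _ (by decide)) C52_rel 3 hcard (by decide)

theorem bound7 (Γ : Type) [Group Γ] [Finite Γ] (σ : Γ →* P)
    (hσ : Cfsg.IsStemExtension σ) : Nat.card (qmap σ hσ.2.1 1343485440).ker = 1 := by
  have hc := hσ.2.1
  have : Finite (LPG (2 * 6) (coverRels 6 mm C5 C5 63)) := card_5.1
  have hcard : Nat.card (LPG (2 * 6) (coverRels 6 mm C5 C5 63)) ∣ Nat.card P * 3 := by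
    show Nat.card (CovG 6 mm C5 C5 63) ∣ _
    rw [card_F]
  have h7 : Nat.card (qmap σ hc 1343485440).ker ∣ 3 :=
    card_qmap_ker_dvd_of_pow_dvd σ hσ hc 7 (by norm_num) 3 1 1343485440 63 (by norm_num)
      (by rw [card_P]; norm_num)
      6 mm C5 C5 C52_lt g g_closure (mm_cop _ (by decide)) C52_rel 3 hcard (by decide)
  exact ker_trivial_of_coprime σ hσ hc 343 1343485440 3 (by rw [card_P]) (by decide) h7

/-- the bound for the kernel of a stem extension, given the bound for its 2-part. -/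
theorem bound (Γ : Type) [Group Γ] [Finite Γ] (σ : Γ →* P)
    (hσ : Cfsg.IsStemExtension σ)
    (h2 : Nat.card (qmap σ hσ.2.1 900030285).ker = 1) : Nat.card σ.ker ≤ 3 := by
  have hc := hσ.2.1
  have h3 := bound3 Γ σ hσ
  have h7 := bound7 Γ σ hσ
  have h5 : ∀ z ∈ σ.ker, z ^ Nat.gcd (Nat.gcd 900030285 5689080320) 1343485440 = 1 → z = 1 := by
    intro z hz hz1
    have e : Nat.gcd (Nat.gcd 900030285 5689080320) 1343485440 = 5 * (11 * (19 * 31)) := by
      decide
    rw [e] at hz1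
    refine eq_one_of_pow_eq_one σ hσ (5 * (11 * (19 * 31))) ?_ z hz hz1
    intro q hq hqd
    rw [card_P]
    rcases (Nat.Prime.dvd_mul hq).mp hqd with h | h
    · rw [(Nat.prime_dvd_prime_iff_eq hq (by norm_num)).mp h]
      decide
    · rcases (Nat.Prime.dvd_mul hq).mp h with h | h
      · rw [(Nat.prime_dvd_prime_iff_eq hq (by norm_num)).mp h]
        decide
      · rcases (Nat.Prime.dvd_mul hq).mp h with h | h
        · rw [(Nat.prime_dvd_prime_iff_eq hq (by norm_num)).mp h]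
          decide
        · rw [(Nat.prime_dvd_prime_iff_eq hq (by norm_num)).mp h]
          decide
  have h8 := card_ker_le_mul3 σ hc 900030285 5689080320 1343485440 h5
  calc Nat.card σ.ker ≤ Nat.card (qmap σ hc 900030285).ker *
        Nat.card (qmap σ hc 5689080320).ker * Nat.card (qmap σ hc 1343485440).ker := h8
    _ ≤ 1 * 3 * 1 := by
        rw [h2, h7]
        exact Nat.mul_le_mul (Nat.mul_le_mul le_rfl (Nat.le_of_dvd (by norm_num) h3)) le_rfl
    _ = 3 := by norm_num

/-- the Schur multiplier of the group on the points, given the bound for the 2-part. -/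
theorem main_of_two
    (H2 : ∀ (Γ : Type) [Group Γ] [Finite Γ] (σ : Γ →* P) (hσ : Cfsg.IsStemExtension σ),
      Nat.card (qmap σ hσ.2.1 900030285).ker = 1) :
    Cfsg.HasCyclicSchurMultiplier P 3 := by
  have c3 : Nat.card (Multiplicative (ZMod 3)) = 3 := by
    change Nat.card (ZMod 3) = 3
    rw [Nat.card_zmod]
  apply hasSchurMultiplier_of_exists_of_card_le
  · exact ⟨CovG 6 mm C5 C5 63, inferInstance, card_5.1, piF, stem_F.1.1, stem_F.1.2⟩
  · intro Γ _ _ σ hσ
    rw [c3]
    exact bound Γ σ hσ (H2 Γ σ hσ)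

end Cfsg.Agent.Helper9.ONM
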