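import Mathlib
import Cfsg.Agent.Helper9.ONM.Gen

/-!
# Generators of odd order of the O'Nan group on the 122760 points, for the 2-part of the multiplier

The elements `x = bcdcdcde` (order 19), `y = ab` (order 3) and `z = g b c g⁻¹` (order 3): `x, y` generate
the subgroup `L3(7)` of index 245520; the relators of the covering presentation of exponent 2 (helper5)
hold, and the three elements generate the group.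
-/

set_option autoImplicit false

namespace Cfsg.Agent.Helper9.ONM

open Cfsg Cfsg.Spor Cfsg.Agent.Helper9.ON Cfsg.Agent.Helper9.ONS Cfsg.Agent.Helper9.ONO
open Cfsg.Agent.Helper5.StemP Cfsg.Agent.Helper5.ONTC Cfsg.Agent.S1692

/-- the orders of `x, y, z`. -/
def mB (i : ℕ) : ℕ := if i = 0 then 19 else 3

/-- the relators of the presentation on `x, y, z` (letters `2 i`, `2 i + 1`). -/
def CB : List (List ℕ) := [[4, 2, 4, 2, 4, 2, 4, 2],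
  [5, 1, 5, 0, 2, 1, 1, 2, 0, 2, 0, 3, 1, 2, 4, 0, 4, 2, 1, 1, 3, 0, 0, 3, 1, 2, 1, 3, 0, 0],
  [5, 1, 5, 0, 0, 2, 0, 0, 0, 0, 0, 3, 1, 1, 3, 0, 0, 4, 0, 4, 1, 1, 2, 0, 0, 2, 1, 1, 1, 1, 1, 3, 1, 1],
  [0, 5, 0, 5, 2, 4, 1, 4, 1, 2],
  [0, 2, 5, 2, 1, 5, 2, 5, 2, 4],
  [5, 2, 1, 3, 1, 2, 4, 2, 1, 3, 0, 0, 0, 2],
  [5, 0, 3, 1, 1, 1, 3, 0, 3, 0, 3, 4, 2, 1, 3, 0, 0, 3, 0, 3, 1, 1, 1, 3, 0, 0],
  [4, 1, 4, 0, 5, 0, 5, 0, 3, 1, 2, 0, 0, 0, 2, 1, 3, 0],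
  [4, 1, 4, 2, 5, 0, 5, 1, 1, 3, 0, 2, 0, 3, 1, 1, 2, 0, 0],
  [4, 3, 5, 2, 4, 2, 5, 3, 1, 2, 0],
  [4, 3, 5, 0, 0, 2, 1, 1, 2, 0, 2, 0, 3, 1, 4, 2, 5, 3, 0, 2, 1, 1, 2, 0, 3, 0, 2, 1, 1, 1, 3, 0],
  [4, 3, 5, 1, 1, 3, 0, 0, 3, 1, 2, 1, 3, 0, 4, 2, 5, 2, 0, 2, 1, 1, 2, 0, 3, 0],
  [4, 1, 2, 1, 3, 1, 2, 0, 5, 1, 2, 0, 0, 0, 3, 1, 2, 0],
  [4, 2, 1, 3, 0, 0, 0, 2, 5, 2, 1, 3, 1, 2],
  [5, 2, 5, 2, 4, 3, 4, 2, 1, 3, 0],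
  [5, 2, 5, 0, 0, 2, 1, 1, 2, 0, 2, 0, 3, 1, 4, 3, 4, 0, 2, 1, 1, 2, 0, 3, 0, 2, 1, 1, 1, 2, 0],
  [5, 2, 5, 1, 1, 3, 0, 0, 3, 1, 2, 1, 3, 0, 4, 3, 4, 3, 0, 2, 1, 3, 1, 3, 0, 0],
  [4, 3, 5, 1, 5, 0, 2, 1, 1, 2, 0, 0, 3, 1, 4, 0, 4, 2, 5, 1, 3, 0, 2, 1, 1, 2, 0, 3, 0, 3],
  [4, 3, 5, 1, 5, 1, 3, 1, 1, 2, 0, 0, 3, 0, 0, 3, 4, 0, 4, 2, 5, 2, 1, 3, 0, 0, 0, 3, 1, 1, 2, 1, 2],
  [2, 1, 3, 1, 2, 2, 1, 3, 1, 2, 2, 1, 3, 1, 2],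
  [0, 3, 1, 1, 1, 3, 0, 3, 0, 3, 0, 3, 1, 1, 1, 3, 0, 3, 0, 3, 0, 3, 1, 1, 1, 3, 0, 3, 0, 3, 0, 3, 1, 1, 1, 3, 0, 3, 0, 3, 0, 3, 1, 1, 1, 3, 0, 3, 0, 3, 0, 3, 1, 1, 1, 3, 0, 3, 0, 3, 0, 3, 1, 1, 1, 3, 0, 3, 0, 3],
  [0, 0, 2, 1, 1, 2, 0, 2, 0, 3, 1, 0, 0, 2, 1, 1, 2, 0, 2, 0, 3, 1, 0, 0, 2, 1, 1, 2, 0, 2, 0, 3, 1],
  [1, 1, 3, 0, 0, 3, 1, 2, 1, 3, 0, 1, 1, 3, 0, 0, 3, 1, 2, 1, 3, 0, 1, 1, 3, 0, 0, 3, 1, 2, 1, 3, 0],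
  [1, 2, 1, 3, 1, 2, 0, 1, 2, 1, 3, 1, 2, 0, 1, 2, 1, 3, 1, 2, 0],
  [2, 1, 3, 0, 0, 0, 2, 2, 1, 3, 0, 0, 0, 2, 2, 1, 3, 0, 0, 0, 2],
  [0, 0, 2, 1, 1, 2, 0, 2, 0, 3, 1, 0, 0, 2, 1, 1, 2, 0, 2, 0, 3, 1, 0, 0, 2, 1, 1, 2, 0, 2, 0, 3, 1],
  [1, 1, 3, 0, 0, 3, 1, 2, 1, 3, 0, 1, 1, 3, 0, 0, 3, 1, 2, 1, 3, 0, 1, 1, 3, 0, 0, 3, 1, 2, 1, 3, 0],
  [0, 2, 1, 1, 2, 0, 0, 3, 1, 0, 2, 1, 1, 2, 0, 0, 3, 1, 0, 2, 1, 1, 2, 0, 0, 3, 1],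
  [1, 3, 1, 1, 2, 0, 0, 3, 0, 0, 3, 1, 3, 1, 1, 2, 0, 0, 3, 0, 0, 3, 1, 3, 1, 1, 2, 0, 0, 3, 0, 0, 3],
  [0, 2, 1, 2, 0, 3, 3, 1, 2],
  [0, 0, 2, 0, 2, 0, 3, 3, 0, 2, 0, 0, 3, 1, 3],
  [0, 0, 2, 1, 1, 2, 0, 0, 2, 1, 1, 3, 0, 0, 3, 1, 1, 2],
  [0, 0, 2, 1, 3, 0, 0, 3, 1, 2, 0, 0, 2, 1, 3, 0, 2, 0, 3, 1, 2],
  [0, 0, 2, 0, 0, 2, 1, 2, 1, 3, 1, 1, 3, 0, 3, 0, 2, 0, 2, 0, 3, 1, 2]]

/-- the words of `x, x⁻¹, y, y⁻¹, z, z⁻¹` in the letters of the group. -/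
def wB (c : ℕ) : List ℕ :=
  ([[1, 2, 3, 2, 3, 2, 3, 4], [4, 3, 2, 3, 2, 3, 2, 1], [0, 1], [1, 0], [6, 1, 2, 7], [6, 2, 1, 7]] :
    List (List ℕ)).getD c []

theorem wB_lt (c : ℕ) : ∀ x ∈ wB c, x < 8 := by
  unfold wB
  by_cases hc : c < 6
  · interval_cases c <;> decide
  · rw [List.getD_eq_default _ _ (by simpa using hc)]
    simp

theorem pW_append (u v : List ℕ) : pW (u ++ v) = pW u * pW v := by
  unfold pW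
  rw [List.map_append, List.prod_append]

theorem flatMap_lt (l : List ℕ) : ∀ x ∈ l.flatMap wB, x < 8 := by
  intro x hx
  obtain ⟨c, _, hxc⟩ := List.mem_flatMap.mp hx
  exact wB_lt c x hxc

/-- the generators `x, y, z`. -/
noncomputable def gB (i : ℕ) : P := ⟨pW (wB (2 * i)), pW_mem _ (wB_lt _)⟩

set_option maxRecDepth 1000000 in
theorem chk_invB : ∀ i, i < 3 →
    agr3 (evC (wB (2 * i) ++ wB (2 * i + 1))) (fun v => v) = true := by decide +kernel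

theorem coe_lvalB (c : ℕ) (hc : c < 6) :
    ((lval gB c : P) : Equiv.Perm (Fin nP)) = pW (wB c) := by
  have hinv : ∀ i, i < 3 → (pW (wB (2 * i)))⁻¹ = pW (wB (2 * i + 1)) := by
    intro i hi
    apply inv_eq_of_mul_eq_one_right
    rw [← pW_append]
    have hlt : ∀ x ∈ wB (2 * i) ++ wB (2 * i + 1), x < 8 := by
      intro x hx
      rcases List.mem_append.mp hx with h | h
      · exact wB_lt _ x h
      · exact wB_lt _ x h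
    exact eq_one_of_agr3 (pW_mem _ hlt) (cp_pW _ hlt) (chk_invB i hi)
  interval_cases c
  · rfl
  · exact hinv 0 (by norm_num)
  · rfl
  · exact hinv 1 (by norm_num)
  · rfl
  · exact hinv 2 (by norm_num)

theorem coe_wordB : ∀ l : List ℕ, (∀ c ∈ l, c < 6) →
    (((l.map (lval gB)).prod : P) : Equiv.Perm (Fin nP)) = pW (l.flatMap wB)
  | [], _ => rfl
  | c :: l, h => by
    rw [List.map_cons, List.prod_cons, Subgroup.coe_mul, coe_lvalB c (h c List.mem_cons_self),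
      coe_wordB l (fun c hc => h c (List.mem_cons_of_mem _ hc)), List.flatMap_cons, pW_append]

/-- a word in `x, y, z` that fixes the base is trivial. -/
theorem wordB_eq_one (l : List ℕ) (hl : ∀ c ∈ l, c < 6)
    (h : agr3 (evC (l.flatMap wB)) (fun v => v) = true) : (l.map (lval gB)).prod = 1 := by
  apply Subtype.ext
  rw [coe_wordB l hl]
  exact eq_one_of_agr3 (pW_mem _ (flatMap_lt l)) (cp_pW _ (flatMap_lt l)) h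

theorem CB_lt : ∀ r ∈ CB, ∀ c ∈ r, c < 2 * 3 := by decide

set_option maxRecDepth 1000000 in
theorem chk_relsB : ∀ r ∈ CB, agr3 (evC (r.flatMap wB)) (fun v => v) = true := by decide +kernel

theorem CB_rel : ∀ r ∈ CB, (r.map (lval gB)).prod = 1 := fun r hr =>
  wordB_eq_one r (CB_lt r hr) (chk_relsB r hr)

theorem CB2_lt : ∀ r ∈ CB ++ CB, ∀ c ∈ r, c < 2 * 3 := by
  intro r hr
  rcases List.mem_append.mp hr with h | h <;> exact CB_lt r h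

theorem CB2_rel : ∀ r ∈ CB ++ CB, (r.map (lval gB)).prod = 1 := by
  intro r hr
  rcases List.mem_append.mp hr with h | h <;> exact CB_rel r h

set_option maxRecDepth 1000000 in
theorem chk_powB : ∀ i, i < 3 →
    agr3 (evC ((List.replicate (mB i) (2 * i)).flatMap wB)) (fun v => v) = true := by
  decide +kernel

theorem gB_pow : ∀ i, i < 3 → gB i ^ mB i = 1 := by
  intro i hi
  have h1 : ((List.replicate (mB i) (2 * i)).map (lval gB)).prod = 1 := by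
    apply wordB_eq_one _ _ (chk_powB i hi)
    intro c hc
    rw [List.eq_of_mem_replicate hc]
    omega
  rwa [List.map_replicate, List.prod_replicate, lval_even] at h1

/-! ### generation -/

/-- the words of `a, b, c, d, e, g` in `x, y, z`. -/
def bwB (i : ℕ) : List ℕ :=
  ([[2, 5, 1, 2, 0, 2, 4], [5, 1, 2, 0, 2, 4], [0, 2, 1, 3, 0, 4, 1, 4], [0, 3, 0, 2, 0, 4, 1, 4, 2, 0, 0, 2], [0, 2, 0, 5, 0, 4, 0, 5, 2, 0, 0, 5, 0, 5, 3, 1], [0, 5, 1, 2, 5, 2, 0, 0, 2, 0, 0, 0, 3, 1, 5, 3, 0, 0]] : List (List ℕ)).getD i []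

theorem bwB_lt : ∀ i, i < 6 → ∀ c ∈ bwB i, c < 6 := by decide

set_option maxRecDepth 1000000 in
theorem chk_backB : ∀ i, i < 6 → agr3 (ctF (gl i)) (evC ((bwB i).flatMap wB)) = true := by
  decide +kernel

theorem wordB_mem (l : List ℕ) (hl : ∀ c ∈ l, c < 6) :
    (l.map (lval gB)).prod ∈ Subgroup.closure {y : P | ∃ i, i < 3 ∧ y = gB i} := by
  apply Subgroup.list_prod_mem
  intro y hy
  obtain ⟨c, hc, rfl⟩ := List.mem_map.mp hy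
  have hi : c / 2 < 3 := by have := hl c hc; omega
  unfold lval
  split_ifs
  · exact Subgroup.subset_closure ⟨c / 2, hi, rfl⟩
  · exact inv_mem (Subgroup.subset_closure ⟨c / 2, hi, rfl⟩)

theorem g_eq_wordB (i : ℕ) (hi : i < 6) : g i = ((bwB i).map (lval gB)).prod := by
  apply Subtype.ext
  rw [coe_wordB _ (bwB_lt i hi)]
  exact eq_of_agr3 (sg_mem (gl_lt i)) (pW_mem _ (flatMap_lt _)) (cp_sg (gl_lt i))
    (cp_pW _ (flatMap_lt _)) (chk_backB i hi)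

/-- the three generators generate the group. -/
theorem gB_closure : Subgroup.closure {y : P | ∃ i, i < 3 ∧ y = gB i} = ⊤ := by
  rw [eq_top_iff, ← g_closure, Subgroup.closure_le]
  rintro y ⟨i, hi, rfl⟩
  rw [g_eq_wordB i hi]
  exact wordB_mem _ (bwB_lt i hi)

end Cfsg.Agent.Helper9.ONM
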