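import Mathlib
import Cfsg.Agent.Helper9.ONM.GenB
import Cfsg.Agent.Helper9.ONM.Cov

/-!
# The Schur multiplier of the O'Nan group: the 2-part

A bound `|G|` for the order of the covering group of exponent 2 on the generators `x, y, z` of odd
order shows that the 2-part of the kernel of every stem extension is trivial.
-/

set_option autoImplicit false

namespace Cfsg.Agent.Helper9.ONM

open Cfsg Cfsg.Agent.Helper5.StemP Cfsg.Agent.Helper5.LP Cfsg.Agent.Helper5.LTC
  Cfsg.Agent.Helper5.TC Cfsg.Agent.Helper5.TCI Cfsg.Agent.Helper4.ShM Cfsg.Agent.Helper4.StemX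

/-- the covering homomorphism of exponent 2. -/
noncomputable def piB : CovG 3 mB CB CB 2 →* P :=
  coverHomU 3 mB CB CB 2 CB2_lt gB gB_pow CB2_rel

theorem piB_surj : Function.Surjective piB :=
  coverHomU_surjective 3 mB CB CB 2 CB2_lt gB gB_pow CB2_rel gB_closure

theorem mB_cop : ∀ i, i < 3 → gB i ^ mB i = 1 ∧ (mB i).Coprime (2 ^ 9) := by
  intro i hi
  refine ⟨gB_pow i hi, ?_⟩
  unfold mB
  split_ifs <;> decide

/-- the 2-part of the kernel of a stem extension is trivial, given the bound for the covering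
group of exponent 2. -/
theorem bound2 (hB : Finite (CovG 3 mB CB CB 2) ∧ Nat.card (CovG 3 mB CB CB 2) ≤ 460815505920)
    (Γ : Type) [Group Γ] [Finite Γ] (σ : Γ →* P)
    (hσ : Cfsg.IsStemExtension σ) : Nat.card (qmap σ hσ.2.1 900030285).ker = 1 := by
  have hc := hσ.2.1
  have : Finite (CovG 3 mB CB CB 2) := hB.1
  have : Finite (LPG (2 * 3) (coverRels 3 mB CB CB 2)) := hB.1
  have hmul := card_eq_card_mul_ker piB piB_surj
  have hker : Nat.card piB.ker = 1 := by
    have h := hB.2
    rw [hmul, card_P] at h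
    have hpos : 0 < Nat.card piB.ker := Nat.card_pos
    have h1 : Nat.card piB.ker ≤ 1 := by
      by_contra hgt
      rw [not_le] at hgt
      have : 460815505920 * 2 ≤ 460815505920 * Nat.card piB.ker := Nat.mul_le_mul_left _ hgt
      omega
    omega
  have hcard : Nat.card (LPG (2 * 3) (coverRels 3 mB CB CB 2)) ∣ Nat.card P * 1 := by
    show Nat.card (CovG 3 mB CB CB 2) ∣ _
    rw [hmul, hker]
  have h2 : Nat.card (qmap σ hc 900030285).ker ∣ 1 :=
    card_qmap_ker_dvd_of_pow_dvd σ hσ hc 2 Nat.prime_two 9 1 900030285 2 (by norm_num)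
      (by rw [card_P]; norm_num)
      3 mB CB CB CB2_lt gB gB_closure mB_cop CB2_rel 1 hcard (by decide)
  exact Nat.dvd_one.mp h2

/-- the Schur multiplier of the group on the points, given the bound for the covering group of
exponent 2. -/
theorem main_of_B (hB : Finite (CovG 3 mB CB CB 2) ∧ Nat.card (CovG 3 mB CB CB 2) ≤ 460815505920) :
    Cfsg.HasCyclicSchurMultiplier P 3 :=
  main_of_two (fun Γ _ _ σ hσ => bound2 hB Γ σ hσ)

/-- the Schur multiplier of the O'Nan group, given the bound for the covering group of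
exponent 2. -/
theorem multiplier_ON_of_B
    (hB : Finite (CovG 3 mB CB CB 2) ∧ Nat.card (CovG 3 mB CB CB 2) ≤ 460815505920) :
    Cfsg.HasCyclicSchurMultiplier Cfsg.Spor.ON 3 :=
  hasSchurMultiplier_congr Cfsg.Agent.Helper9.ONO.e0.symm (main_of_B hB)

end Cfsg.Agent.Helper9.ONM
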