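import Cfsg.Agent.Helper9.ONM.MMDat

/-! generated permutation model, checks: MM -/

set_option autoImplicit false
set_option Elab.async false
set_option maxRecDepth 1000000

namespace Cfsg.Agent.Helper9.ONM.MM
open Cfsg.Agent.Helper5.TC Cfsg.Agent.Helper5.TCI Cfsg.Agent.Helper5.LP

theorem invc_0_0 : invRowFI mT 368280 0 1 50000 0 = true := by decide +kernel

theorem invc_5_250000 : invRowFI mT 368280 5 4 50000 250000 = true := by decide +kernel

theorem invc_11_150000 : invRowFI mT 368280 11 10 50000 150000 = true := by decide +kernel

theorem fixc_1_200000 : fixPtsF W_1 25000 200000 = true := by decide +kernel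

theorem fixc_4_150000 : fixPtsF W_4 25000 150000 = true := by decide +kernel

theorem fixc_6_180000 : fixPtsF W_6 10000 180000 = true := by decide +kernel

theorem fixc_7_220000 : fixPtsF W_7 10000 220000 = true := by decide +kernel

theorem fixc_8_260000 : fixPtsF W_8 10000 260000 = true := by decide +kernel

theorem fixc_15_50000 : fixPtsF W_15 25000 50000 = true := by decide +kernel

theorem fixc_17_175000 : fixPtsF W_17 6250 175000 = true := by decide +kernel

theorem fixc_18_250000 : fixPtsF W_18 25000 250000 = true := by decide +kernel

theorem fixc_20_110000 : fixPtsF W_20 5000 110000 = true := by decide +kernel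

theorem fixc_20_310000 : fixPtsF W_20 5000 310000 = true := by decide +kernel

theorem fixc_26_50000 : fixPtsF W_26 50000 50000 = true := by decide +kernel

theorem fixc_10_8333 : fixPtsF W_10 8333 8333 = true := by decide +kernel

theorem fixc_10_299988 : fixPtsF W_10 8333 299988 = true := by decide +kernel

theorem fixc_11_266656 : fixPtsF W_11 8333 266656 = true := by decide +kernel

theorem fixc_21_99996 : fixPtsF W_21 16666 99996 = true := by decide +kernel

theorem fixc_16_9999 : fixPtsF W_16 3333 9999 = true := by decide +kernel

theorem fixc_16_143319 : fixPtsF W_16 3333 143319 = true := by decide +kernel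

theorem fixc_16_276639 : fixPtsF W_16 3333 276639 = true := by decide +kernel

theorem fixc_9_114264 : fixPtsF W_9 4761 114264 = true := by decide +kernel

theorem fixc_9_304704 : fixPtsF W_9 4761 304704 = true := by decide +kernel

theorem fixc_12_366652 : fixPtsF W_12 1628 366652 = true := by decide +kernel

end Cfsg.Agent.Helper9.ONM.MM
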