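import Cfsg.Agent.Helper9.ONM.MMDat

/-! generated permutation model, checks: MM -/

set_option autoImplicit false
set_option Elab.async false
set_option maxRecDepth 1000000

namespace Cfsg.Agent.Helper9.ONM.MM
open Cfsg.Agent.Helper5.TC Cfsg.Agent.Helper5.TCI Cfsg.Agent.Helper5.LP

theorem invc_1_300000 : invRowFI mT 368280 1 0 50000 300000 = true := by decide +kernel

theorem invc_7_200000 : invRowFI mT 368280 7 6 50000 200000 = true := by decide +kernel

theorem invc_13_100000 : invRowFI mT 368280 13 12 50000 100000 = true := by decide +kernel

theorem fixc_2_175000 : fixPtsF W_2 25000 175000 = true := by decide +kernel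

theorem fixc_5_125000 : fixPtsF W_5 25000 125000 = true := by decide +kernel

theorem fixc_6_310000 : fixPtsF W_6 10000 310000 = true := by decide +kernel

theorem fixc_7_350000 : fixPtsF W_7 10000 350000 = true := by decide +kernel

theorem fixc_13_75000 : fixPtsF W_13 25000 75000 = true := by decide +kernel

theorem fixc_17_6250 : fixPtsF W_17 6250 6250 = true := by decide +kernel

theorem fixc_17_256250 : fixPtsF W_17 6250 256250 = true := by decide +kernel

theorem fixc_19_225000 : fixPtsF W_19 25000 225000 = true := by decide +kernel

theorem fixc_20_175000 : fixPtsF W_20 5000 175000 = true := by decide +kernel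

theorem fixc_22_50000 : fixPtsF W_22 25000 50000 = true := by decide +kernel

theorem fixc_28_0 : fixPtsF W_28 50000 0 = true := by decide +kernel

theorem fixc_10_116662 : fixPtsF W_10 8333 116662 = true := by decide +kernel

theorem fixc_11_41665 : fixPtsF W_11 8333 41665 = true := by decide +kernel

theorem fixc_12_16666 : fixPtsF W_12 16666 16666 = true := by decide +kernel

theorem fixc_21_316654 : fixPtsF W_21 16666 316654 = true := by decide +kernel

theorem fixc_16_53328 : fixPtsF W_16 3333 53328 = true := by decide +kernel

theorem fixc_16_186648 : fixPtsF W_16 3333 186648 = true := by decide +kernel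

theorem fixc_16_319968 : fixPtsF W_16 3333 319968 = true := by decide +kernel

theorem fixc_9_176157 : fixPtsF W_9 4761 176157 = true := by decide +kernel

theorem fixc_17_362500 : fixPtsF W_17 5780 362500 = true := by decide +kernel

theorem invc_8_350000 : invRowFI mT 368280 8 9 18280 350000 = true := by decide +kernel

end Cfsg.Agent.Helper9.ONM.MM
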