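import Cfsg.Agent.Helper9.ONM.MMDat

/-! generated permutation model, checks: MM -/

set_option autoImplicit false
set_option Elab.async false
set_option maxRecDepth 1000000

namespace Cfsg.Agent.Helper9.ONM.MM
open Cfsg.Agent.Helper5.TC Cfsg.Agent.Helper5.TCI Cfsg.Agent.Helper5.LP

theorem invc_3_300000 : invRowFI mT 368280 3 2 50000 300000 = true := by decide +kernel

theorem invc_9_200000 : invRowFI mT 368280 9 8 50000 200000 = true := by decide +kernel

theorem fixc_0_225000 : fixPtsF W_0 25000 225000 = true := by decide +kernel

theorem fixc_3_175000 : fixPtsF W_3 25000 175000 = true := by decide +kernel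

theorem fixc_6_50000 : fixPtsF W_6 10000 50000 = true := by decide +kernel

theorem fixc_7_90000 : fixPtsF W_7 10000 90000 = true := by decide +kernel

theorem fixc_8_130000 : fixPtsF W_8 10000 130000 = true := by decide +kernel

theorem fixc_14_75000 : fixPtsF W_14 25000 75000 = true := by decide +kernel

theorem fixc_17_93750 : fixPtsF W_17 6250 93750 = true := by decide +kernel

theorem fixc_17_343750 : fixPtsF W_17 6250 343750 = true := by decide +kernel

theorem fixc_20_45000 : fixPtsF W_20 5000 45000 = true := by decide +kernel

theorem fixc_20_245000 : fixPtsF W_20 5000 245000 = true := by decide +kernel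

theorem fixc_24_100000 : fixPtsF W_24 50000 100000 = true := by decide +kernel

theorem fixc_29_175000 : fixPtsF W_29 25000 175000 = true := by decide +kernel

theorem fixc_10_233324 : fixPtsF W_10 8333 233324 = true := by decide +kernel

theorem fixc_11_158327 : fixPtsF W_11 8333 158327 = true := by decide +kernel

theorem fixc_12_249990 : fixPtsF W_12 16666 249990 = true := by decide +kernel

theorem fixc_23_183326 : fixPtsF W_23 16666 183326 = true := by decide +kernel

theorem fixc_16_99990 : fixPtsF W_16 3333 99990 = true := by decide +kernel

theorem fixc_16_233310 : fixPtsF W_16 3333 233310 = true := by decide +kernel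

theorem fixc_9_0 : fixPtsF W_9 4761 0 = true := by decide +kernel

theorem fixc_9_52371 : fixPtsF W_9 4761 52371 = true := by decide +kernel

theorem fixc_9_242811 : fixPtsF W_9 4761 242811 = true := by decide +kernel

theorem invc_9_350000 : invRowFI mT 368280 9 8 18280 350000 = true := by decide +kernel

end Cfsg.Agent.Helper9.ONM.MM
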